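/-
Integer rows attached to the irreducible characters, abstractly: signed types and their counts.
-/
import Mathlib

set_option autoImplicit false

namespace Cfsg.Agent.JankoOneOrder

/-- The integer data extracted from the characters on the `t`-section. -/
structure Sys (ι : Type*) [Fintype ι] where
  g : ℕ
  o : ι
  σ : Equiv.Perm ι
  d : ι → ℤ
  X : ι → ℤ
  u : ι → ℤ
  w : ι → ℤ
  β : ι → ℤ
  h : ι → ℤ
  X_eq : ∀ i, X i = 3 * u i - 2 * w i + 5 * β i + 4 * h i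
  d_pos : ∀ i, 1 ≤ d i
  d_o : d o = 1
  u_o : u o = 1
  w_o : w o = 1
  β_o : β o = 0
  h_o : h o = 0
  uu : ∑ i, u i * u i = 4
  ww : ∑ i, w i * w i = 4
  bb : ∑ i, β i * β i = 4
  hh : ∑ i, h i * h i = 2
  uw : ∑ i, u i * w i = 2
  ub : ∑ i, u i * β i = 0
  wb : ∑ i, w i * β i = 2
  uh : ∑ i, u i * h i = 0
  wh : ∑ i, w i * h i = 0
  bh : ∑ i, β i * h i = 0
  du : ∑ i, d i * u i = 0
  dw : ∑ i, d i * w i = 0
  db : ∑ i, d i * β i = 0
  dh : ∑ i, d i * h i = 0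
  mu : (g : ℚ) * ∑ i, (u i : ℚ) * (X i : ℚ) ^ 2 / d i = 144000
  mb : (g : ℚ) * ∑ i, (β i : ℚ) * (X i : ℚ) ^ 2 / d i = 57600
  mh : (g : ℚ) * ∑ i, (h i : ℚ) * (X i : ℚ) ^ 2 / d i = 0
  σ_o : σ o = o
  σ_d : ∀ i, d (σ i) = d i
  σ_u : ∀ i, u (σ i) = w i
  σ_w : ∀ i, w (σ i) = u i
  σ_b : ∀ i, β (σ i) = β i + u i - w i
  dX8 : ∀ i, (d i - X i) % 8 = 0
  dX0 : ∀ i, 0 ≤ d i + 7 * X i
  dvd : ∀ i, d i ∣ g
  sq : ∑ i, d i * d i ≤ g
  g_mod : g % 1680 = 840

variable {ι : Type*} [Fintype ι] [DecidableEq ι] (S : Sys ι)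

theorem sum_two_le (f : ι → ℤ) (hf : ∀ j, 0 ≤ f j) {i k : ι} (hik : i ≠ k) {c : ℤ} (hc : ∑ j, f j = c) :
    f i + f k ≤ c := by
  rw [← hc, ← Finset.sum_pair hik (f := f)]
  exact Finset.sum_le_sum_of_subset_of_nonneg (Finset.subset_univ _) fun j _ _ => hf j

namespace Sys

theorem u_bound {i : ι} (hi : i ≠ S.o) : -1 ≤ S.u i ∧ S.u i ≤ 1 := by
  have h := sum_two_le (fun j => S.u j * S.u j) (fun j => mul_self_nonneg _) hi S.uu
  simp only [S.u_o] at h
  constructor <;> nlinarith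

theorem w_bound {i : ι} (hi : i ≠ S.o) : -1 ≤ S.w i ∧ S.w i ≤ 1 := by
  have h := sum_two_le (fun j => S.w j * S.w j) (fun j => mul_self_nonneg _) hi S.ww
  simp only [S.w_o] at h
  constructor <;> nlinarith

theorem b_bound (i : ι) : -1 ≤ S.β i ∧ S.β i ≤ 1 := by
  by_contra hcon
  have hbig : 4 ≤ S.β i * S.β i := by
    rcases not_and_or.mp hcon with h | h <;> nlinarith
  have hothers : ∀ j, j ≠ i → S.β j = 0 := fun j hj => by
    have h := sum_two_le (fun k => S.β k * S.β k) (fun k => mul_self_nonneg _) hj.symm S.bb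
    have h2 := mul_self_nonneg (S.β j)
    exact mul_self_eq_zero.mp (by linarith)
  have h := S.db
  rw [Finset.sum_eq_single i (fun j _ hj => by rw [hothers j hj, mul_zero])
    (fun h => absurd (Finset.mem_univ i) h), mul_eq_zero] at h
  rcases h with h | h
  · have := S.d_pos i; omega
  · rw [h] at hbig; norm_num at hbig

theorem h_bound (i : ι) : -1 ≤ S.h i ∧ S.h i ≤ 1 := by
  have h := Finset.single_le_sum (f := fun j => S.h j * S.h j) (fun j _ => mul_self_nonneg _) (Finset.mem_univ i)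
  rw [S.hh] at h
  constructor <;> nlinarith

/-- The part of `X` coming from `u`, `w`, `β`. -/
def L (i : ι) : ℤ := 3 * S.u i - 2 * S.w i + 5 * S.β i

theorem X_L (i : ι) : S.X i = S.L i + 4 * S.h i := S.X_eq i

/-- The two rows with nonzero `h`. -/
theorem h_pair : ∃ p m, p ≠ m ∧ p ≠ S.o ∧ m ≠ S.o ∧ S.h p = 1 ∧ S.h m = -1 ∧ S.d p = S.d m ∧ S.L p = 0 ∧
    S.L m = 0 ∧ ∀ i, i ≠ p → i ≠ m → S.h i = 0 := by
  set s := Finset.univ.filter fun i => S.h i ≠ 0 with hs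
  have hone : ∀ i ∈ s, S.h i = 1 ∨ S.h i = -1 := fun i hi => by
    have := S.h_bound i; have := (Finset.mem_filter.mp hi).2; omega
  have hcard : s.card = 2 := by
    have h := S.hh
    rw [← Finset.sum_filter_of_ne (p := fun i => S.h i ≠ 0) (fun i _ hne => fun h0 => hne (by rw [h0, mul_zero])),
      Finset.sum_congr rfl (g := fun _ => (1 : ℤ)) (fun i hi => by
        rcases hone i hi with e | e <;> rw [e] <;> rfl)] at h
    simp only [Finset.sum_const, nsmul_eq_mul, mul_one] at h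
    exact_mod_cast h
  obtain ⟨p, m, hpm, hpmS⟩ := Finset.card_eq_two.mp hcard
  have hz : ∀ i, i ≠ p → i ≠ m → S.h i = 0 := fun i h1 h2 => by
    by_contra h
    have : i ∈ s := Finset.mem_filter.mpr ⟨Finset.mem_univ i, h⟩
    rw [hpmS] at this; simp [h1, h2] at this
  have sumh : ∀ f : ι → ℚ, ∑ i, (S.h i : ℚ) * f i = S.h p * f p + S.h m * f m := fun f =>
    Finset.sum_eq_add p m hpm (fun i _ h => by rw [hz i h.1 h.2]; simp)
      (fun h => absurd (Finset.mem_univ p) h) (fun h => absurd (Finset.mem_univ m) h)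
  have hd : (S.d p : ℚ) * S.h p + S.d m * S.h m = 0 := by
    have h := congrArg (fun z : ℤ => (z : ℚ)) S.dh
    push_cast at h
    rw [Finset.sum_congr rfl (fun i _ => mul_comm (S.d i : ℚ) (S.h i)), sumh] at h
    linarith
  have hp1 := hone p (by rw [hpmS]; simp)
  have hm1 := hone m (by rw [hpmS]; simp)
  wlog hpos : S.h p = 1 generalizing p m
  · refine this m p hpm.symm (by rw [hpmS, Finset.pair_comm]) (fun i a b => hz i b a)
      (fun f => by rw [sumh]; ring) (by linarith) hm1 hp1 ?_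
    rcases hp1 with e | e
    · exact absurd e hpos
    rcases hm1 with e' | e'
    · exact e'
    rw [e, e'] at hd
    have h1 : (1 : ℚ) ≤ S.d p := by exact_mod_cast S.d_pos p
    have h2 : (1 : ℚ) ≤ S.d m := by exact_mod_cast S.d_pos m
    push_cast at hd; linarith
  have hdp : (1 : ℚ) ≤ S.d p := by exact_mod_cast S.d_pos p
  have hdm : (1 : ℚ) ≤ S.d m := by exact_mod_cast S.d_pos m
  have hneg : S.h m = -1 := by
    rcases hm1 with e | e
    · rw [hpos, e] at hd; push_cast at hd; linarith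
    · exact e
  rw [hpos, hneg] at hd
  push_cast at hd
  have hdd : (S.d p : ℚ) = S.d m := by linarith
  have hL : (S.L p : ℚ) - S.L m = 0 := by
    have e : ∑ i, (S.h i : ℚ) * (S.L i : ℚ) = 0 := by
      have e1 : ∑ i, S.h i * S.L i = 3 * ∑ i, S.u i * S.h i - 2 * ∑ i, S.w i * S.h i + 5 * ∑ i, S.β i * S.h i := by
        rw [Finset.mul_sum, Finset.mul_sum, Finset.mul_sum, ← Finset.sum_sub_distrib, ← Finset.sum_add_distrib]
        exact Finset.sum_congr rfl fun i _ => by unfold Sys.L; ring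
      rw [S.uh, S.wh, S.bh] at e1
      exact_mod_cast e1
    rw [sumh, hpos, hneg] at e
    push_cast at e; linarith
  have hg : (S.g : ℚ) ≠ 0 := fun h => by
    have := S.g_mod; rw [Nat.cast_eq_zero] at h; omega
  have e := (mul_eq_zero.mp S.mh).resolve_left hg
  rw [Finset.sum_congr rfl (fun i _ => mul_div_assoc (S.h i : ℚ) _ _), sumh, hpos, hneg, ← hdd, S.X_L p, S.X_L m,
    hpos, hneg] at e
  push_cast at e
  rw [show (S.L m : ℚ) = S.L p by linarith] at e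
  have hne : (S.d p : ℚ) ≠ 0 := by linarith
  field_simp at e
  have hLp : S.L p = 0 := by
    have : (S.L p : ℚ) = 0 := by linarith
    exact_mod_cast this
  have hLm : S.L m = 0 := by
    have : (S.L m : ℚ) = 0 := by rw [hLp] at hL; push_cast at hL; linarith
    exact_mod_cast this
  exact ⟨p, m, hpm, fun h => by rw [h, S.h_o] at hpos; omega, fun h => by rw [h, S.h_o] at hneg; omega, hpos, hneg,
    by exact_mod_cast hdd, hLp, hLm, hz⟩

theorem h_zero_of_L {i : ι} (hi : S.L i ≠ 0) : S.h i = 0 := by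
  obtain ⟨p, m, -, -, -, -, -, -, hp, hm, hz⟩ := S.h_pair
  exact hz i (fun h => hi (h ▸ hp)) (fun h => hi (h ▸ hm))

/-- The sign making the first nonzero entry of a row positive. -/
def sg (i : ι) : ℤ := if S.u i ≠ 0 then S.u i else if S.w i ≠ 0 then S.w i else S.β i

/-- The signed type of a row. -/
def T (i : ι) : ℤ × ℤ × ℤ := (S.sg i * S.u i, S.sg i * S.w i, S.sg i * S.β i)

/-- The signed degree. -/
def e (i : ι) : ℤ := S.sg i * S.d i

/-- The nontrivial rows of a given type. -/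
def F (T : ℤ × ℤ × ℤ) : Finset ι := Finset.univ.filter fun i => i ≠ S.o ∧ S.T i = T

theorem mem_F {T : ℤ × ℤ × ℤ} {i : ι} : i ∈ S.F T ↔ i ≠ S.o ∧ S.T i = T := by simp [F]

/-- The thirteen types. -/
def types : List (ℤ × ℤ × ℤ) :=
  [(0, 0, 1), (0, 1, 0), (0, 1, 1), (0, 1, -1), (1, 0, 0), (1, 0, 1), (1, 0, -1), (1, 1, 0), (1, 1, 1),
    (1, 1, -1), (1, -1, 0), (1, -1, 1), (1, -1, -1)]

theorem rows {i : ι} (hi : i ≠ S.o) : S.T i = 0 ∧ S.u i = 0 ∧ S.w i = 0 ∧ S.β i = 0 ∨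
    S.T i ∈ types ∧ S.sg i * S.sg i = 1 ∧ S.u i = S.sg i * (S.T i).1 ∧ S.w i = S.sg i * (S.T i).2.1 ∧
      S.β i = S.sg i * (S.T i).2.2 := by
  have hu : S.u i = -1 ∨ S.u i = 0 ∨ S.u i = 1 := by have := S.u_bound hi; omega
  have hw : S.w i = -1 ∨ S.w i = 0 ∨ S.w i = 1 := by have := S.w_bound hi; omega
  have hb : S.β i = -1 ∨ S.β i = 0 ∨ S.β i = 1 := by have := S.b_bound i; omega
  rcases hu with a | a | a <;> rcases hw with b | b | b <;> rcases hb with c | c | c <;>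
    simp [T, sg, types, a, b, c]

theorem row_of_T {i : ι} (hi : i ≠ S.o) {a b c : ℤ} (hT : S.T i = (a, b, c)) (h0 : (a, b, c) ≠ (0 : ℤ × ℤ × ℤ)) :
    (S.sg i = 1 ∨ S.sg i = -1) ∧ S.u i = S.sg i * a ∧ S.w i = S.sg i * b ∧ S.β i = S.sg i * c := by
  rcases S.rows hi with ⟨h, -⟩ | ⟨-, h1, h2, h3, h4⟩
  · exact absurd (hT.symm.trans h) h0
  · exact ⟨mul_self_eq_one_iff.mp h1, by rw [h2, hT], by rw [h3, hT], by rw [h4, hT]⟩

/-- Splitting a sum over rows by types. -/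
theorem expand {M : Type*} [AddCommMonoid M] (l : List (ℤ × ℤ × ℤ)) (hl : l.Nodup) (f : ι → M)
    (hf : ∀ i, i ≠ S.o → S.T i ∉ l → f i = 0) :
    ∑ i, f i = f S.o + (l.map fun T => ∑ i ∈ S.F T, f i).sum := by
  rw [← Finset.add_sum_erase _ _ (Finset.mem_univ S.o), ← List.sum_toFinset _ hl]
  congr 1
  rw [← Finset.sum_filter_of_ne (p := fun i => S.T i ∈ l.toFinset) (fun i hi hne => by
      by_contra h
      exact hne (hf i (Finset.ne_of_mem_erase hi) (fun hm => h (List.mem_toFinset.mpr hm)))),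
    ← Finset.sum_fiberwise_of_maps_to (t := l.toFinset) (g := S.T) fun i hi => (Finset.mem_filter.mp hi).2]
  refine Finset.sum_congr rfl fun T hT => Finset.sum_congr ?_ fun _ _ => rfl
  ext i
  simp only [Finset.mem_filter, Finset.mem_erase, Finset.mem_univ, and_true, mem_F]
  exact ⟨fun h => ⟨h.1.1, h.2⟩, fun h => ⟨⟨h.1, by rw [h.2]; exact hT⟩, h.2⟩⟩

theorem quad (f : ι → ℤ) (φ : ℤ × ℤ × ℤ → ℤ) (hf : ∀ i, i ≠ S.o → f i = φ (S.T i)) (h0 : φ 0 = 0) :
    ∑ i, f i = f S.o + (types.map fun T => ((S.F T).card : ℤ) * φ T).sum := by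
  rw [S.expand types (by decide) f fun i hi hT => by
    rcases S.rows hi with ⟨h, -⟩ | ⟨h, -⟩
    · rw [hf i hi, h, h0]
    · exact absurd h hT]
  congr 2
  refine List.map_congr_left fun T _ => ?_
  rw [Finset.sum_congr rfl (g := fun _ => φ T) fun i hi => by rw [hf i (S.mem_F.mp hi).1, (S.mem_F.mp hi).2],
    Finset.sum_const, nsmul_eq_mul]

theorem T_mul {i : ι} (hi : i ≠ S.o) :
    S.u i * S.u i = (S.T i).1 * (S.T i).1 ∧ S.w i * S.w i = (S.T i).2.1 * (S.T i).2.1 ∧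
    S.β i * S.β i = (S.T i).2.2 * (S.T i).2.2 ∧ S.u i * S.w i = (S.T i).1 * (S.T i).2.1 ∧
    S.u i * S.β i = (S.T i).1 * (S.T i).2.2 ∧ S.w i * S.β i = (S.T i).2.1 * (S.T i).2.2 := by
  rcases S.rows hi with ⟨h, a, b, c⟩ | ⟨-, h1, a, b, c⟩
  · simp [h, a, b, c]
  · have key : ∀ x y : ℤ, S.sg i * x * (S.sg i * y) = x * y := fun x y => by
      rw [mul_mul_mul_comm, h1, one_mul]
    simp only [a, b, c, key, and_self]

theorem σ_ne_o {i : ι} (hi : i ≠ S.o) : S.σ i ≠ S.o := fun h => hi (S.σ.injective (h.trans S.σ_o.symm))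

theorem σ_row {i : ι} (hi : i ≠ S.o) {a b c : ℤ} (hT : S.T i = (a, b, c)) (h0 : (a, b, c) ≠ (0 : ℤ × ℤ × ℤ)) :
    S.u (S.σ i) = S.sg i * b ∧ S.w (S.σ i) = S.sg i * a ∧ S.β (S.σ i) = S.sg i * (c + a - b) := by
  obtain ⟨-, h1, h2, h3⟩ := S.row_of_T hi hT h0
  exact ⟨by rw [S.σ_u, h2], by rw [S.σ_w, h1], by rw [S.σ_b, h1, h2, h3]; ring⟩

theorem σ_T {i : ι} {a b c a' b' c' : ℤ} (hi : i ∈ S.F (a, b, c)) (h0 : (a, b, c) ≠ (0 : ℤ × ℤ × ℤ))
    (ha : a' = b) (hb : b' = a) (hc : c' = c + a - b) (hfirst : (if a' ≠ 0 then a' else if b' ≠ 0 then b' else c') = 1) :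
    S.σ i ∈ S.F (a', b', c') ∧ S.sg (S.σ i) = S.sg i ∧ S.e (S.σ i) = S.e i := by
  obtain ⟨hio, hT⟩ := S.mem_F.mp hi
  obtain ⟨h1, -⟩ := S.row_of_T hio hT h0
  obtain ⟨hu, hw, hb'⟩ := S.σ_row hio hT h0
  rw [← ha] at hu; rw [← hb] at hw; rw [← hc] at hb'
  have hsg : S.sg (S.σ i) = S.sg i := by
    simp only [sg, hu, hw, hb']
    show (if S.sg i * a' ≠ 0 then S.sg i * a' else if S.sg i * b' ≠ 0 then S.sg i * b' else S.sg i * c') = S.sg i
    rcases h1 with e | e <;> rw [e] <;> simp only [one_mul, neg_one_mul, neg_ne_zero] <;>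
      split_ifs at hfirst ⊢ <;> omega
  refine ⟨S.mem_F.mpr ⟨S.σ_ne_o hio, ?_⟩, hsg, by rw [e, e, hsg, S.σ_d]⟩
  have key : ∀ x : ℤ, S.sg i * (S.sg i * x) = x := fun x => by rcases h1 with e | e <;> rw [e] <;> ring
  rw [T, hsg, hu, hw, hb', key, key, key]

theorem empty_of_out {a b c : ℤ} (h0 : (a, b, c) ≠ (0 : ℤ × ℤ × ℤ)) (hout : c + a - b ≤ -2 ∨ 2 ≤ c + a - b) :
    S.F (a, b, c) = ∅ := by
  refine Finset.eq_empty_of_forall_notMem fun i hi => ?_
  obtain ⟨hio, hT⟩ := S.mem_F.mp hi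
  obtain ⟨h1, -⟩ := S.row_of_T hio hT h0
  have h := S.b_bound (S.σ i)
  rw [(S.σ_row hio hT h0).2.2] at h
  rcases h1 with e | e <;> rw [e] at h <;> omega

theorem card_F_le {a b c a' b' c' : ℤ} (h0 : (a, b, c) ≠ (0 : ℤ × ℤ × ℤ)) (ha : a' = b) (hb : b' = a)
    (hc : c' = c + a - b) (hfirst : (if a' ≠ 0 then a' else if b' ≠ 0 then b' else c') = 1) :
    (S.F (a, b, c)).card ≤ (S.F (a', b', c')).card :=
  Finset.card_le_card_of_injOn S.σ (fun _ hi => (S.σ_T hi h0 ha hb hc hfirst).1) S.σ.injective.injOn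

set_option maxHeartbeats 1000000 in
/-- The three possible patterns. -/
theorem patterns : ∃ n : ℤ × ℤ × ℤ → ℕ, (∀ T ∈ types, (S.F T).card = n T) ∧
    (types.map n = [2, 0, 2, 0, 2, 0, 0, 1, 0, 0, 0, 0, 0] ∨
      types.map n = [2, 0, 0, 0, 0, 0, 0, 1, 1, 0, 0, 0, 1] ∨
      types.map n = [1, 1, 1, 0, 1, 0, 1, 0, 1, 0, 0, 0, 0]) := by
  refine ⟨fun T => (S.F T).card, fun _ _ => rfl, ?_⟩
  have q1 := S.quad (fun i => S.u i * S.u i) (fun T => T.1 * T.1) (fun i hi => (S.T_mul hi).1) rfl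
  have q2 := S.quad (fun i => S.w i * S.w i) (fun T => T.2.1 * T.2.1) (fun i hi => (S.T_mul hi).2.1) rfl
  have q3 := S.quad (fun i => S.β i * S.β i) (fun T => T.2.2 * T.2.2) (fun i hi => (S.T_mul hi).2.2.1) rfl
  have q4 := S.quad (fun i => S.u i * S.w i) (fun T => T.1 * T.2.1) (fun i hi => (S.T_mul hi).2.2.2.1) rfl
  have q5 := S.quad (fun i => S.u i * S.β i) (fun T => T.1 * T.2.2) (fun i hi => (S.T_mul hi).2.2.2.2.1) rfl
  have q6 := S.quad (fun i => S.w i * S.β i) (fun T => T.2.1 * T.2.2) (fun i hi => (S.T_mul hi).2.2.2.2.2) rfl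
  simp only [S.uu, S.ww, S.bb, S.uw, S.ub, S.wb, S.u_o, S.w_o, S.β_o, types, List.map_cons, List.map_nil,
    List.sum_cons, List.sum_nil] at q1 q2 q3 q4 q5 q6
  have z1 := congrArg Finset.card (S.empty_of_out (a := 0) (b := 1) (c := -1) (by decide) (by decide))
  have z2 := congrArg Finset.card (S.empty_of_out (a := 1) (b := 0) (c := 1) (by decide) (by decide))
  have z3 := congrArg Finset.card (S.empty_of_out (a := 1) (b := -1) (c := 0) (by decide) (by decide))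
  have z4 := congrArg Finset.card (S.empty_of_out (a := 1) (b := -1) (c := 1) (by decide) (by decide))
  have s1 := le_antisymm
    (S.card_F_le (a := 0) (b := 1) (c := 0) (a' := 1) (b' := 0) (c' := -1) (by decide) rfl rfl rfl rfl)
    (S.card_F_le (a := 1) (b := 0) (c := -1) (a' := 0) (b' := 1) (c' := 0) (by decide) rfl rfl rfl rfl)
  have s2 := le_antisymm
    (S.card_F_le (a := 0) (b := 1) (c := 1) (a' := 1) (b' := 0) (c' := 0) (by decide) rfl rfl rfl rfl)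
    (S.card_F_le (a := 1) (b := 0) (c := 0) (a' := 0) (b' := 1) (c' := 1) (by decide) rfl rfl rfl rfl)
  simp only [Finset.card_empty] at z1 z2 z3 z4
  generalize n1 : (S.F (0, 0, 1)).card = x1 at *
  generalize n2 : (S.F (0, 1, 0)).card = x2 at *
  generalize n3 : (S.F (0, 1, 1)).card = x3 at *
  generalize n4 : (S.F (0, 1, -1)).card = x4 at *
  generalize n5 : (S.F (1, 0, 0)).card = x5 at *
  generalize n6 : (S.F (1, 0, 1)).card = x6 at *
  generalize n7 : (S.F (1, 0, -1)).card = x7 at *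
  generalize n8 : (S.F (1, 1, 0)).card = x8 at *
  generalize n9 : (S.F (1, 1, 1)).card = x9 at *
  generalize n10 : (S.F (1, 1, -1)).card = x10 at *
  generalize n11 : (S.F (1, -1, 0)).card = x11 at *
  generalize n12 : (S.F (1, -1, 1)).card = x12 at *
  generalize n13 : (S.F (1, -1, -1)).card = x13 at *
  subst z1 z2 z3 z4 s1 s2
  simp only [types, List.map_cons, List.map_nil, n1, n2, n3, n4, n5, n6, n7, n8, n9, n10, n11, n12, n13]
  norm_num at q1 q2 q3 q4 q5 q6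
  have hp : x2 = 0 ∨ x2 = 1 := by omega
  have hk : x13 = 0 ∨ x13 = 1 := by omega
  rcases hp with rfl | rfl <;> rcases hk with rfl | rfl
  · left
    obtain ⟨rfl, rfl, rfl, rfl, rfl⟩ : x1 = 2 ∧ x3 = 2 ∧ x8 = 1 ∧ x9 = 0 ∧ x10 = 0 := by omega
    rfl
  · right; left
    obtain ⟨rfl, rfl, rfl, rfl, rfl⟩ : x1 = 2 ∧ x3 = 0 ∧ x8 = 1 ∧ x9 = 1 ∧ x10 = 0 := by omega
    rfl
  · right; right
    obtain ⟨rfl, rfl, rfl, rfl, rfl⟩ : x1 = 1 ∧ x3 = 1 ∧ x8 = 0 ∧ x9 = 1 ∧ x10 = 0 := by omega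
    rfl
  · omega

end Sys

end Cfsg.Agent.JankoOneOrder
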