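/-
The two finite searches for degrees in the determination of the order of Janko's first group.
-/
import Mathlib

set_option autoImplicit false

namespace Cfsg.Agent.JankoOneOrder

def negBound (e m n : ℤ) : Bool := decide (e ≤ -m) || decide (n ≤ e)

/-- The surviving pairs. -/
def survivors : List (ℤ × ℤ) :=
  [(-15, -21), (-7, -21), (-7, 3), (41, -21), (49, -29), (209, -133)]

def admissible (D C : ℤ) : Bool :=
  let C' := -1 - D - C
  let num := 144000 * D * C * C'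
  let den := D * C * C' + C * C' + 9 * D * (C + C')
  let g := num / den
  negBound D 7 1 && negBound C 21 3 && negBound C' 21 3 && decide (C ≤ C') && (den != 0) &&
    (num % den == 0) && decide (0 < g) && (g % 1680 == 840) && (g % D == 0) && (g % C == 0) && (g % C' == 0)

def checkOne : Bool :=
  (List.range 269).all fun i => (List.range 269).all fun j =>
    !(admissible (-1071 + 8 * (i : ℤ)) (-1069 + 8 * (j : ℤ))) ||
      survivors.contains (-1071 + 8 * (i : ℤ), -1069 + 8 * (j : ℤ))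

def final (D C A : ℤ) : Bool :=
  let C' := -1 - D - C
  let g := 144000 * D * C * C' / (D * C * C' + C * C' + 9 * D * (C + C'))
  let A' := 1 + D - A
  decide (A ≤ A') && (A != 0) && (A' != 0) &&
    (g * (25 * (A + A') * C * C' + 9 * A * A' * (C + C')) == 57600 * A * A' * C * C')

def checkTwo : Bool :=
  survivors.all fun p => (List.range 270).all fun k =>
    !(final p.1 p.2 (-1075 + 8 * (k : ℤ))) ||
      ((p.1, p.2) == (209, -133)) || ((p.1, p.2, -1075 + 8 * (k : ℤ)) == (-15, -21, -35))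

theorem checkOne_true : checkOne = true := by decide +kernel

theorem checkTwo_true : checkTwo = true := by decide +kernel

def badThree (r C : ℤ) : Bool :=
  let A := 2 * r + 1
  let p := -1 - r - C
  negBound r 18 14 && negBound C 21 3 && negBound p 42 6 &&
    (5 * (25 * r * C * p + 9 * A * r * p - 4 * A * C * p + 36 * A * r * C) ==
      2 * (r * A * C * p + 4 * A * C * p + 9 * A * r * p + 36 * A * r * C))

def checkThree : Bool :=
  (List.range 214).all fun i => (List.range 214).all fun j =>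
    !(badThree (-850 + 8 * (i : ℤ)) (-853 + 8 * (j : ℤ)))

theorem checkThree_true : checkThree = true := by decide +kernel

theorem negBound_iff {e m n : ℤ} : negBound e m n = true ↔ e ≤ -m ∨ n ≤ e := by
  simp [negBound]

/-- Search for the pattern of seven characters. -/
theorem search_one {g D C C' A A' : ℤ} (hsum : C' = -1 - D - C) (hA : A' = 1 + D - A)
    (hD8 : D % 8 = 1) (hC8 : C % 8 = 3) (hA8 : A % 8 = 5)
    (hD : D ≤ -7 ∨ 1 ≤ D) (hC : C ≤ -21 ∨ 3 ≤ C) (hC' : C' ≤ -21 ∨ 3 ≤ C')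
    (hDb : D ^ 2 ≤ 1152000) (hCb : C ^ 2 ≤ 1152000) (hAb : A ^ 2 ≤ 1152000)
    (hCC : C ≤ C') (hAA : A ≤ A') (hA0 : A ≠ 0) (hA0' : A' ≠ 0)
    (hg0 : 0 < g) (hg : g % 1680 = 840) (hdD : D ∣ g) (hdC : C ∣ g) (hdC' : C' ∣ g)
    (hu : g * (D * C * C' + C * C' + 9 * D * (C + C')) = 144000 * D * C * C')
    (hb : g * (25 * (A + A') * C * C' + 9 * A * A' * (C + C')) = 57600 * A * A' * C * C') :
    g = 175560 ∨ g = 189000 ∧ D = -15 ∧ C = -21 ∧ C' = 35 ∧ A = -35 ∧ A' = 21 := by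
  have hDr : -1073 ≤ D ∧ D ≤ 1073 := ⟨by nlinarith, by nlinarith⟩
  have hCr : -1073 ≤ C ∧ C ≤ 1073 := ⟨by nlinarith, by nlinarith⟩
  have hAr : -1073 ≤ A ∧ A ≤ 1073 := ⟨by nlinarith, by nlinarith⟩
  obtain ⟨i, hi, hi'⟩ : ∃ i : ℕ, i < 269 ∧ D = -1071 + 8 * (i : ℤ) := ⟨((D + 1071) / 8).toNat, by omega, by omega⟩
  obtain ⟨j, hj, hj'⟩ : ∃ j : ℕ, j < 269 ∧ C = -1069 + 8 * (j : ℤ) := ⟨((C + 1069) / 8).toNat, by omega, by omega⟩
  obtain ⟨k, hk, hk'⟩ : ∃ k : ℕ, k < 270 ∧ A = -1075 + 8 * (k : ℤ) := ⟨((A + 1075) / 8).toNat, by omega, by omega⟩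
  have hden : D * C * C' + C * C' + 9 * D * (C + C') ≠ 0 := by
    intro h
    rw [h, mul_zero] at hu
    have : D * (C * C') = 0 := by linarith [mul_assoc D C C']
    rcases mul_eq_zero.mp this with h' | h'
    · omega
    · rcases mul_eq_zero.mp h' with h'' | h'' <;> omega
  have hdiv : 144000 * D * C * C' / (D * C * C' + C * C' + 9 * D * (C + C')) = g := by
    rw [← hu, Int.mul_ediv_cancel _ hden]
  have hadm : admissible D C = true := by
    subst hsum
    simp only [admissible, Bool.and_eq_true, negBound_iff, decide_eq_true_eq, bne_iff_ne, beq_iff_eq, hdiv]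
    exact ⟨⟨⟨⟨⟨⟨⟨⟨⟨⟨hD, hC⟩, hC'⟩, hCC⟩, hden⟩, by rw [← hu]; simp⟩, hg0⟩, hg⟩, Int.emod_eq_zero_of_dvd hdD⟩,
      Int.emod_eq_zero_of_dvd hdC⟩, Int.emod_eq_zero_of_dvd hdC'⟩
  have h1 := checkOne_true
  simp only [checkOne, List.all_eq_true, List.mem_range] at h1
  have h1' := h1 i hi j hj
  rw [← hi', ← hj', hadm] at h1'
  simp only [Bool.not_true, Bool.false_or, List.contains_iff_mem] at h1'
  have hfin : final D C A = true := by
    subst hsum hA
    simp only [final, Bool.and_eq_true, decide_eq_true_eq, bne_iff_ne, beq_iff_eq, hdiv]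
    exact ⟨⟨⟨hAA, hA0⟩, hA0'⟩, hb⟩
  have h2 := checkTwo_true
  simp only [checkTwo, List.all_eq_true, List.mem_range] at h2
  have h2' := h2 (D, C) h1' k hk
  simp only [← hk', hfin, Bool.not_true, Bool.false_or, Bool.or_eq_true, beq_iff_eq, Prod.mk.injEq] at h2'
  rcases h2' with ⟨rfl, rfl⟩ | ⟨rfl, rfl, rfl⟩
  · left; subst hsum; norm_num at hu; omega
  · subst hsum hA; norm_num at hu ⊢; right; omega

/-- Search for the second pattern: there is no solution. -/
theorem search_three {r C : ℤ} (hr8 : r % 8 = 6) (hC8 : C % 8 = 3)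
    (hr : r ≤ -18 ∨ 14 ≤ r) (hC : C ≤ -21 ∨ 3 ≤ C) (hp : -1 - r - C ≤ -42 ∨ 6 ≤ -1 - r - C)
    (hrb : r ^ 2 ≤ 720000) (hCb : C ^ 2 ≤ 720000) :
    5 * (25 * r * C * (-1 - r - C) + 9 * (2 * r + 1) * r * (-1 - r - C)
        - 4 * (2 * r + 1) * C * (-1 - r - C) + 36 * (2 * r + 1) * r * C) ≠
      2 * (r * (2 * r + 1) * C * (-1 - r - C) + 4 * (2 * r + 1) * C * (-1 - r - C)
        + 9 * (2 * r + 1) * r * (-1 - r - C) + 36 * (2 * r + 1) * r * C) := by
  intro heq
  have hrr : -848 ≤ r ∧ r ≤ 848 := ⟨by nlinarith, by nlinarith⟩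
  have hCr : -848 ≤ C ∧ C ≤ 848 := ⟨by nlinarith, by nlinarith⟩
  obtain ⟨i, hi, hi'⟩ : ∃ i : ℕ, i < 214 ∧ r = -850 + 8 * (i : ℤ) := ⟨((r + 850) / 8).toNat, by omega, by omega⟩
  obtain ⟨j, hj, hj'⟩ : ∃ j : ℕ, j < 214 ∧ C = -853 + 8 * (j : ℤ) := ⟨((C + 853) / 8).toNat, by omega, by omega⟩
  have h1 := checkThree_true
  simp only [checkThree, List.all_eq_true, List.mem_range] at h1
  have h1' := h1 i hi j hj
  rw [← hi', ← hj', show badThree r C = true by
    simp only [badThree, Bool.and_eq_true, negBound_iff, beq_iff_eq]; exact ⟨⟨⟨hr, hC⟩, hp⟩, heq⟩] at h1'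
  simp at h1'

end Cfsg.Agent.JankoOneOrder
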