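/-
The three patterns: the order is 175560, or 189000 with explicitly known rows.
-/
import Cfsg.Agent.Lib.JankoOneOrder.Rows
import Cfsg.Agent.Lib.JankoOneOrder.Search

set_option autoImplicit false

namespace Cfsg.Agent.JankoOneOrder.Sys

variable {ι : Type*} [Fintype ι] [DecidableEq ι] (S : Sys ι)

/-- The rows left over at order 189000. -/
def Bad : Prop :=
  ∃ D C C' B B' A A' p m : ι,
    (S.d D = 15 ∧ S.X D = -1) ∧ (S.d C = 21 ∧ S.X C = -3) ∧ (S.d B = 21 ∧ S.X B = -3) ∧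
    (S.d A = 35 ∧ S.X A = -5) ∧ (p ≠ m ∧ S.d p = S.d m ∧ S.X p = 4 ∧ S.X m = -4) ∧ D ≠ C' ∧
    ∀ f : ι → ℂ,
      ∑ i, (S.u i : ℂ) * f i = f S.o - f D - f C + f C' ∧
      ∑ i, (S.w i : ℂ) * f i = f S.o - f D - f B + f B' ∧
      ∑ i, (S.β i : ℂ) * f i = f A' - f A - f B + f B' ∧
      ∑ i, (S.h i : ℂ) * f i = f p - f m ∧
      ∑ i, (S.X i : ℂ) ^ 2 * f i / (S.d i : ℂ) =
        f S.o + f D / 15 + 9 * (f C / 21 + f C' / 35 + f B / 21 + f B' / 35)
          + 25 * (f A / 35 + f A' / 21) + 16 * (f p + f m) / (S.d p : ℂ)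

theorem terms {a b c x : ℤ} {i : ι} (hi : i ∈ S.F (a, b, c)) (hx : x = 3 * a - 2 * b + 5 * c) (hx0 : x ≠ 0) :
    (S.sg i = 1 ∨ S.sg i = -1) ∧ S.u i = S.sg i * a ∧ S.w i = S.sg i * b ∧ S.β i = S.sg i * c ∧
    S.d i = S.sg i * S.e i ∧ S.X i = S.sg i * x ∧ S.L i = S.sg i * x ∧
    S.d i * S.u i = a * S.e i ∧ S.d i * S.w i = b * S.e i ∧ S.d i * S.β i = c * S.e i ∧
    S.e i ≠ 0 ∧ (S.e i - x) % 8 = 0 ∧ (0 < S.e i → 0 ≤ S.e i + 7 * x) ∧ (S.e i < 0 → S.e i + 7 * x ≤ 0) ∧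
    S.e i ∣ S.g ∧ S.e i ^ 2 ≤ S.g := by
  obtain ⟨hio, hT⟩ := S.mem_F.mp hi
  have h0 : (a, b, c) ≠ (0 : ℤ × ℤ × ℤ) := by
    intro h; simp only [Prod.mk_eq_zero] at h; omega
  obtain ⟨hs, hu, hw, hb⟩ := S.row_of_T hio hT h0
  have hL : S.L i = S.sg i * x := by rw [Sys.L, hu, hw, hb, hx]; ring
  have hX : S.X i = S.sg i * x := by
    rw [S.X_L, S.h_zero_of_L (by rw [hL]; rcases hs with e | e <;> rw [e] <;> omega), hL]; ring
  have h8 := S.dX8 i
  have h70 := S.dX0 i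
  have hd := S.d_pos i
  have hdvd := S.dvd i
  have hsq : S.d i * S.d i ≤ S.g :=
    le_trans (Finset.single_le_sum (f := fun j => S.d j * S.d j) (fun j _ => mul_self_nonneg _)
      (Finset.mem_univ i)) S.sq
  rw [hX] at h8 h70
  refine ⟨hs, hu, hw, hb, ?_⟩
  rw [hX, hL, hu, hw, hb, Sys.e]
  rcases hs with e | e <;> rw [e] at h8 h70 ⊢ <;> simp only [one_mul, neg_one_mul] at h8 h70 ⊢
  · exact ⟨trivial, trivial, trivial, by ring, by ring, by ring, by omega, h8, fun _ => h70, by omega, hdvd, by linarith [pow_two (S.d i)]⟩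
  · exact ⟨(neg_neg _).symm, trivial, trivial, by ring, by ring, by ring, by omega, by omega, by omega,
      fun _ => by omega, neg_dvd.mpr hdvd, by linarith [neg_sq (S.d i), pow_two (S.d i)]⟩

theorem mterm {a b c x : ℤ} {i : ι} (hi : i ∈ S.F (a, b, c)) (hx : x = 3 * a - 2 * b + 5 * c) (hx0 : x ≠ 0) :
    (S.u i : ℚ) * (S.X i : ℚ) ^ 2 / S.d i = a * (x : ℚ) ^ 2 / S.e i ∧
    (S.β i : ℚ) * (S.X i : ℚ) ^ 2 / S.d i = c * (x : ℚ) ^ 2 / S.e i := by
  obtain ⟨hs, hu, -, hb, hd, hX, -⟩ := S.terms hi hx hx0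
  rw [hu, hb, hd, hX]
  rcases hs with e | e <;> rw [e] <;> push_cast <;> constructor <;> ring

theorem off {l : List (ℤ × ℤ × ℤ)} (hl : ∀ T ∈ types, T ∉ l → (S.F T).card = 0) {i : ι} (hi : i ≠ S.o)
    (hT : S.T i ∉ l) : S.u i = 0 ∧ S.w i = 0 ∧ S.β i = 0 := by
  rcases S.rows hi with ⟨-, h⟩ | ⟨h, -⟩
  · exact h
  · exact absurd (S.mem_F.mpr ⟨hi, rfl⟩) (by rw [Finset.card_eq_zero.mp (hl _ h hT)]; exact Finset.notMem_empty i)

theorem sum_d {l : List (ℤ × ℤ × ℤ)} (hln : l.Nodup) (hl : ∀ T ∈ types, T ∉ l → (S.F T).card = 0) :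
    (0 = 1 + (l.map fun T => ∑ i ∈ S.F T, S.d i * S.u i).sum) ∧
    (0 = 1 + (l.map fun T => ∑ i ∈ S.F T, S.d i * S.w i).sum) ∧
    (0 = (l.map fun T => ∑ i ∈ S.F T, S.d i * S.β i).sum) ∧
    (144000 : ℚ) = S.g * (1 + (l.map fun T => ∑ i ∈ S.F T, (S.u i : ℚ) * (S.X i : ℚ) ^ 2 / S.d i).sum) ∧
    (57600 : ℚ) = S.g * (l.map fun T => ∑ i ∈ S.F T, (S.β i : ℚ) * (S.X i : ℚ) ^ 2 / S.d i).sum := by
  have h1 := S.expand l hln (fun i => S.d i * S.u i) fun i hi hT => by simp [(S.off hl hi hT).1]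
  have h2 := S.expand l hln (fun i => S.d i * S.w i) fun i hi hT => by simp [(S.off hl hi hT).2.1]
  have h3 := S.expand l hln (fun i => S.d i * S.β i) fun i hi hT => by simp [(S.off hl hi hT).2.2]
  have h4 := S.expand l hln (fun i => (S.u i : ℚ) * (S.X i : ℚ) ^ 2 / S.d i) fun i hi hT => by
    simp [(S.off hl hi hT).1]
  have h5 := S.expand l hln (fun i => (S.β i : ℚ) * (S.X i : ℚ) ^ 2 / S.d i) fun i hi hT => by
    simp [(S.off hl hi hT).2.2]
  rw [S.du, S.d_o, S.u_o, mul_one] at h1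
  rw [S.dw, S.d_o, S.w_o, mul_one] at h2
  rw [S.db, S.β_o, mul_zero, zero_add] at h3
  have hXo : S.X S.o = 1 := by rw [S.X_eq, S.u_o, S.w_o, S.β_o, S.h_o]; norm_num
  rw [S.u_o, hXo, S.d_o] at h4
  rw [S.β_o] at h5
  refine ⟨h1, h2, h3, ?_, ?_⟩
  · rw [← S.mu, h4]; norm_num
  · rw [← S.mb, h5]; norm_num

theorem g_pos : (0 : ℤ) < S.g := by have := S.g_mod; omega

theorem g_pos_rat : (0 : ℚ) < S.g := by exact_mod_cast (show 0 < S.g by have := S.g_mod; omega)

theorem pattern_two (h1 : (S.F (1, 1, 0)).card = 1) (h9 : (S.F (1, 1, 1)).card = 1)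
    (h13 : (S.F (1, -1, -1)).card = 1)
    (hl : ∀ T ∈ types, T ∉ [(0, 0, 1), (1, 1, 0), (1, 1, 1), (1, -1, -1)] → (S.F T).card = 0) : False := by
  obtain ⟨D, hD⟩ := Finset.card_eq_one.mp h1
  obtain ⟨P, hP⟩ := Finset.card_eq_one.mp h9
  obtain ⟨k, hk⟩ := Finset.card_eq_one.mp h13
  obtain ⟨e1, e2, -⟩ := S.sum_d (by decide) hl
  have z : ∑ i ∈ S.F (0, 0, 1), S.d i * S.u i = 0 ∧ ∑ i ∈ S.F (0, 0, 1), S.d i * S.w i = 0 := by
    constructor <;> refine Finset.sum_eq_zero fun i hi => ?_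
    · rw [(S.row_of_T (S.mem_F.mp hi).1 (S.mem_F.mp hi).2 (by decide)).2.1]; ring
    · rw [(S.row_of_T (S.mem_F.mp hi).1 (S.mem_F.mp hi).2 (by decide)).2.2.1]; ring
  have r : ∀ {a b c : ℤ} {i : ι}, S.F (a, b, c) = {i} → (a, b, c) ≠ (0 : ℤ × ℤ × ℤ) →
      S.u i = S.sg i * a ∧ S.w i = S.sg i * b ∧ (S.sg i = 1 ∨ S.sg i = -1) := fun {a b c i} h h0 => by
    have hm : i ∈ S.F (a, b, c) := by rw [h]; simp
    obtain ⟨x, y, z, -⟩ := S.row_of_T (S.mem_F.mp hm).1 (S.mem_F.mp hm).2 h0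
    exact ⟨y, z, x⟩
  obtain ⟨u1, w1, -⟩ := r hD (by decide)
  obtain ⟨u2, w2, -⟩ := r hP (by decide)
  obtain ⟨u3, w3, hs⟩ := r hk (by decide)
  simp only [List.map_cons, List.map_nil, List.sum_cons, List.sum_nil, hD, hP, hk, Finset.sum_singleton, z.1, z.2]
    at e1 e2
  rw [u1, u2, u3] at e1
  rw [w1, w2, w3] at e2
  have hd := S.d_pos k
  rcases hs with e | e <;> rw [e] at e1 e2 <;> linarith

theorem div_low {e : ℤ} {c n : ℚ} (hn : 0 < n) (hc : 0 ≤ c) (he : (e : ℚ) ≤ -n) : -(c / n) ≤ c / (e : ℚ) := by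
  have : c / (-(e : ℚ)) ≤ c / n := div_le_div_of_nonneg_left hc hn (by linarith)
  rw [div_neg] at this
  linarith

set_option maxHeartbeats 1000000 in
theorem pattern_three (h1 : (S.F (0, 0, 1)).card = 1) (h2 : (S.F (0, 1, 0)).card = 1) (h3 : (S.F (0, 1, 1)).card = 1)
    (h5 : (S.F (1, 0, 0)).card = 1) (h7 : (S.F (1, 0, -1)).card = 1) (h9 : (S.F (1, 1, 1)).card = 1)
    (hl : ∀ T ∈ types, T ∉ [(0, 0, 1), (0, 1, 0), (0, 1, 1), (1, 0, -1), (1, 0, 0), (1, 1, 1)] →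
      (S.F T).card = 0) : False := by
  obtain ⟨A, hA⟩ := Finset.card_eq_one.mp h1
  obtain ⟨s, hs⟩ := Finset.card_eq_one.mp h2
  obtain ⟨B, hB⟩ := Finset.card_eq_one.mp h3
  obtain ⟨r, hr⟩ := Finset.card_eq_one.mp h7
  obtain ⟨C, hC⟩ := Finset.card_eq_one.mp h5
  obtain ⟨P, hP⟩ := Finset.card_eq_one.mp h9
  have mA : A ∈ S.F (0, 0, 1) := by rw [hA]; simp
  have ms : s ∈ S.F (0, 1, 0) := by rw [hs]; simp
  have mB : B ∈ S.F (0, 1, 1) := by rw [hB]; simp
  have mr : r ∈ S.F (1, 0, -1) := by rw [hr]; simp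
  have mC : C ∈ S.F (1, 0, 0) := by rw [hC]; simp
  have mP : P ∈ S.F (1, 1, 1) := by rw [hP]; simp
  obtain ⟨-, -, -, -, -, -, -, dA, -, bA, neA, cA, posA, negA, -⟩ := S.terms mA (x := 5) rfl (by norm_num)
  obtain ⟨-, -, -, -, -, -, -, ds, -, bs, -⟩ := S.terms ms (x := -2) rfl (by norm_num)
  obtain ⟨-, -, -, -, -, -, -, dB, -, bB, -⟩ := S.terms mB (x := 3) rfl (by norm_num)
  obtain ⟨-, -, -, -, -, -, -, dr, -, br, ner, cr, posr, negr, -, sqr⟩ := S.terms mr (x := -2) rfl (by norm_num)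
  obtain ⟨-, -, -, -, -, -, -, dC, -, bC, neC, cC, posC, negC, -, sqC⟩ := S.terms mC (x := 3) rfl (by norm_num)
  obtain ⟨-, -, -, -, -, -, -, dP, -, bP, neP, cP, posP, negP, -⟩ := S.terms mP (x := 6) rfl (by norm_num)
  have eBC : S.e B = S.e C := by
    obtain ⟨hm, -, he⟩ := S.σ_T mC (a' := 0) (b' := 1) (c' := 1) (by decide) rfl rfl rfl rfl
    rw [hB, Finset.mem_singleton] at hm
    rw [← hm, he]
  obtain ⟨e1, -, e3, m1, m3⟩ := S.sum_d (by decide) hl
  simp only [List.map_cons, List.map_nil, List.sum_cons, List.sum_nil, hA, hs, hB, hr, hC, hP,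
    Finset.sum_singleton, dA, ds, dB, dr, dC, dP, bA, bs, bB, br, bC, bP] at e1 e3
  simp only [List.map_cons, List.map_nil, List.sum_cons, List.sum_nil, hA, hs, hB, hr, hC, hP,
    Finset.sum_singleton, (S.mterm mA (x := 5) rfl (by norm_num)).1, (S.mterm ms (x := -2) rfl (by norm_num)).1,
    (S.mterm mB (x := 3) rfl (by norm_num)).1, (S.mterm mr (x := -2) rfl (by norm_num)).1,
    (S.mterm mC (x := 3) rfl (by norm_num)).1, (S.mterm mP (x := 6) rfl (by norm_num)).1] at m1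
  simp only [List.map_cons, List.map_nil, List.sum_cons, List.sum_nil, hA, hs, hB, hr, hC, hP,
    Finset.sum_singleton, (S.mterm mA (x := 5) rfl (by norm_num)).2, (S.mterm ms (x := -2) rfl (by norm_num)).2,
    (S.mterm mB (x := 3) rfl (by norm_num)).2, (S.mterm mr (x := -2) rfl (by norm_num)).2,
    (S.mterm mC (x := 3) rfl (by norm_num)).2, (S.mterm mP (x := 6) rfl (by norm_num)).2] at m3
  rw [eBC] at e3 m3
  push_cast at m1 m3
  norm_num at m1 m3
  have hrv : S.e r ≤ -18 ∨ 14 ≤ S.e r := by omega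
  have hA' : S.e A = 2 * S.e r + 1 := by omega
  have hP' : S.e P = -1 - S.e r - S.e C := by omega
  have hg := S.g_pos_rat
  have qA : (S.e A : ℚ) = 2 * S.e r + 1 := by exact_mod_cast hA'
  have qr0 : (S.e r : ℚ) ≠ 0 := by exact_mod_cast ner
  have qC0 : (S.e C : ℚ) ≠ 0 := by exact_mod_cast neC
  have qA0 : (S.e A : ℚ) ≠ 0 := by exact_mod_cast neA
  have qP0 : (S.e P : ℚ) ≠ 0 := by exact_mod_cast neP
  have hdiff : (S.g : ℚ) * (1 + 8 / (S.e r : ℚ) - 25 / (S.e A : ℚ)) = 86400 := by linear_combination m3 - m1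
  have hlow : (3 : ℚ) / 25 ≤ 1 + 8 / (S.e r : ℚ) - 25 / (S.e A : ℚ) := by
    rcases hrv with h | h
    · have hq : (S.e r : ℚ) ≤ -18 := by exact_mod_cast h
      have : 25 / (S.e A : ℚ) ≤ 0 := div_nonpos_of_nonneg_of_nonpos (by norm_num) (by rw [qA]; linarith)
      have := div_low (e := S.e r) (c := 8) (n := 18) (by norm_num) (by norm_num) hq
      linarith
    · have hq : (14 : ℚ) ≤ S.e r := by exact_mod_cast h
      have : 25 / (S.e A : ℚ) ≤ 25 / 29 :=
        div_le_div_of_nonneg_left (by norm_num) (by norm_num) (by rw [qA]; linarith)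
      have : 0 ≤ 8 / (S.e r : ℚ) := div_nonneg (by norm_num) (by linarith)
      linarith
  have hgb : (S.g : ℚ) ≤ 720000 := by nlinarith
  have hgb' : (S.g : ℤ) ≤ 720000 := by exact_mod_cast hgb
  refine search_three (r := S.e r) (C := S.e C) (by omega) (by omega) hrv (by omega) (by omega) (by linarith)
    (by linarith) ?_
  rw [← hA', ← hP']
  have hz := congrArg₂ (fun a b : ℚ => 5 * a - 2 * b) m3 m1
  have hz' : (S.g : ℚ) * (5 * (25 / (S.e A : ℚ) + 9 / S.e C - 4 / S.e r + 36 / S.e P)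
      - 2 * (1 + 4 / (S.e r : ℚ) + 9 / S.e C + 36 / S.e P)) = 0 := by linear_combination -hz
  have hz'' := (mul_eq_zero.mp hz').resolve_left hg.ne'
  field_simp at hz''
  have : (5 * (25 * S.e r * S.e C * S.e P + 9 * S.e A * S.e r * S.e P - 4 * S.e A * S.e C * S.e P
      + 36 * S.e A * S.e r * S.e C) : ℚ) = 2 * (S.e r * S.e A * S.e C * S.e P + 4 * S.e A * S.e C * S.e P
        + 9 * S.e A * S.e r * S.e P + 36 * S.e A * S.e r * S.e C) := by linear_combination hz''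
  exact_mod_cast this

set_option maxHeartbeats 2000000 in
theorem pattern_one {D C C' A A' : ι} (hD : S.F (1, 1, 0) = {D}) (hC : S.F (1, 0, 0) = {C, C'}) (hCC : C ≠ C')
    (hA : S.F (0, 0, 1) = {A, A'}) (hAA : A ≠ A') (hCle : S.e C ≤ S.e C') (hAle : S.e A ≤ S.e A')
    (h3 : (S.F (0, 1, 1)).card = 2)
    (hl : ∀ T ∈ types, T ∉ [(0, 0, 1), (0, 1, 1), (1, 0, 0), (1, 1, 0)] → (S.F T).card = 0) :
    S.g = 175560 ∨ S.g = 189000 ∧ S.Bad := by
  have mD : D ∈ S.F (1, 1, 0) := by rw [hD]; simp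
  have mC : C ∈ S.F (1, 0, 0) := by rw [hC]; simp
  have mC' : C' ∈ S.F (1, 0, 0) := by rw [hC]; simp
  have mA : A ∈ S.F (0, 0, 1) := by rw [hA]; simp
  have mA' : A' ∈ S.F (0, 0, 1) := by rw [hA]; simp
  obtain ⟨mB, sB, eB⟩ := S.σ_T mC (a' := 0) (b' := 1) (c' := 1) (by decide) rfl rfl rfl rfl
  obtain ⟨mB', sB', eB'⟩ := S.σ_T mC' (a' := 0) (b' := 1) (c' := 1) (by decide) rfl rfl rfl rfl
  have hBB : S.σ C ≠ S.σ C' := fun h => hCC (S.σ.injective h)
  have hB : S.F (0, 1, 1) = {S.σ C, S.σ C'} := by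
    refine (Finset.eq_of_subset_of_card_le ?_ ?_).symm
    · simp [Finset.insert_subset_iff, mB, mB']
    · rw [h3, Finset.card_pair hBB]
  obtain ⟨-, uD, wD, bD, deD, XD, LD, d1, d2, d3, neD, cD, posD, negD, dvD, sqD⟩ := S.terms mD (x := 1) rfl (by norm_num)
  obtain ⟨-, uC, wC, bC, deC, XC, LC, d4, d5, d6, neC, cC, posC, negC, dvC, sqC⟩ := S.terms mC (x := 3) rfl (by norm_num)
  obtain ⟨-, uC', wC', bC', deC', XC', LC', d7, d8, d9, neC', cC', posC', negC', dvC', sqC'⟩ :=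
    S.terms mC' (x := 3) rfl (by norm_num)
  obtain ⟨-, uA, wA, bA, deA, XA, LA, d10, d11, d12, neA, cA, posA, negA, dvA, sqA⟩ := S.terms mA (x := 5) rfl (by norm_num)
  obtain ⟨-, uA', wA', bA', deA', XA', LA', d13, d14, d15, neA', cA', posA', negA', dvA', sqA'⟩ :=
    S.terms mA' (x := 5) rfl (by norm_num)
  obtain ⟨-, uB, wB, bB, deB, XB, LB, d16, d17, d18, -⟩ := S.terms mB (x := 3) rfl (by norm_num)
  obtain ⟨-, uB', wB', bB', deB', XB', LB', d19, d20, d21, -⟩ := S.terms mB' (x := 3) rfl (by norm_num)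
  obtain ⟨e1, -, e3, m1, m3⟩ := S.sum_d (by decide) hl
  simp only [List.map_cons, List.map_nil, List.sum_cons, List.sum_nil, hA, hB, hC, hD, Finset.sum_pair hAA,
    Finset.sum_pair hBB, Finset.sum_pair hCC, Finset.sum_singleton, d1, d3, d4, d6, d7, d9, d10, d12, d13, d15,
    d16, d18, d19, d21] at e1 e3
  simp only [List.map_cons, List.map_nil, List.sum_cons, List.sum_nil, hA, hB, hC, hD, Finset.sum_pair hAA,
    Finset.sum_pair hBB, Finset.sum_pair hCC, Finset.sum_singleton, (S.mterm mA (x := 5) rfl (by norm_num)).1,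
    (S.mterm mA' (x := 5) rfl (by norm_num)).1, (S.mterm mB (x := 3) rfl (by norm_num)).1,
    (S.mterm mB' (x := 3) rfl (by norm_num)).1, (S.mterm mC (x := 3) rfl (by norm_num)).1,
    (S.mterm mC' (x := 3) rfl (by norm_num)).1, (S.mterm mD (x := 1) rfl (by norm_num)).1] at m1
  simp only [List.map_cons, List.map_nil, List.sum_cons, List.sum_nil, hA, hB, hC, hD, Finset.sum_pair hAA,
    Finset.sum_pair hBB, Finset.sum_pair hCC, Finset.sum_singleton, (S.mterm mA (x := 5) rfl (by norm_num)).2,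
    (S.mterm mA' (x := 5) rfl (by norm_num)).2, (S.mterm mB (x := 3) rfl (by norm_num)).2,
    (S.mterm mB' (x := 3) rfl (by norm_num)).2, (S.mterm mC (x := 3) rfl (by norm_num)).2,
    (S.mterm mC' (x := 3) rfl (by norm_num)).2, (S.mterm mD (x := 1) rfl (by norm_num)).2] at m3
  rw [eB, eB'] at e3 m3
  push_cast at m1 m3
  norm_num at m1 m3
  have hDv : S.e D ≤ -7 ∨ 1 ≤ S.e D := by omega
  have hCv : S.e C ≤ -21 ∨ 3 ≤ S.e C := by omega
  have hCv' : S.e C' ≤ -21 ∨ 3 ≤ S.e C' := by omega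
  have hg := S.g_pos_rat
  have qD0 : (S.e D : ℚ) ≠ 0 := by exact_mod_cast neD
  have qC0 : (S.e C : ℚ) ≠ 0 := by exact_mod_cast neC
  have qC0' : (S.e C' : ℚ) ≠ 0 := by exact_mod_cast neC'
  have qA0 : (S.e A : ℚ) ≠ 0 := by exact_mod_cast neA
  have qA0' : (S.e A' : ℚ) ≠ 0 := by exact_mod_cast neA'
  have hu : (S.g : ℚ) * (1 + 1 / (S.e D : ℚ) + 9 / S.e C + 9 / S.e C') = 144000 := by linear_combination -m1
  have hb : (S.g : ℚ) * (25 / (S.e A : ℚ) + 25 / S.e A' + 9 / S.e C + 9 / S.e C') = 57600 := by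
    linear_combination -m3
  have hlow : (1 : ℚ) / 8 ≤ 1 + 1 / (S.e D : ℚ) + 9 / S.e C + 9 / S.e C' := by
    have pos : ∀ {e : ℤ} {c : ℚ}, 1 ≤ e → 0 ≤ c → 0 ≤ c / (e : ℚ) := fun {e c} h hc =>
      div_nonneg hc (by exact_mod_cast (by omega : (0 : ℤ) ≤ e))
    have nD : S.e D ≤ -7 → -((1 : ℚ) / 7) ≤ 1 / (S.e D : ℚ) := fun h =>
      div_low (by norm_num) (by norm_num) (by exact_mod_cast h)
    have nC : ∀ {e : ℤ}, e ≤ -21 → -((9 : ℚ) / 21) ≤ 9 / (e : ℚ) := fun {e} h =>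
      div_low (by norm_num) (by norm_num) (by exact_mod_cast h)
    rcases hDv with h | h
    · have := nD h
      rcases hCv with h' | h'
      · have := nC h'
        have := pos (e := S.e C') (c := 9) (by omega) (by norm_num)
        linarith
      · have := pos (e := S.e C) (c := 9) (by omega) (by norm_num)
        rcases hCv' with h'' | h''
        · have := nC h''; linarith
        · have := pos (e := S.e C') (c := 9) (by omega) (by norm_num); linarith
    · have := pos (e := S.e D) (c := 1) h (by norm_num)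
      have c1 : -((9 : ℚ) / 21) ≤ 9 / (S.e C : ℚ) := by
        rcases hCv with h' | h'
        · exact nC h'
        · have := pos (e := S.e C) (c := 9) (by omega) (by norm_num); linarith
      have c2 : -((9 : ℚ) / 21) ≤ 9 / (S.e C' : ℚ) := by
        rcases hCv' with h' | h'
        · exact nC h'
        · have := pos (e := S.e C') (c := 9) (by omega) (by norm_num); linarith
      linarith
  have hgb : (S.g : ℚ) ≤ 1152000 := by nlinarith
  have hgb' : (S.g : ℤ) ≤ 1152000 := by exact_mod_cast hgb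
  have zu : (S.g : ℤ) * (S.e D * S.e C * S.e C' + S.e C * S.e C' + 9 * S.e D * (S.e C + S.e C')) =
      144000 * S.e D * S.e C * S.e C' := by
    field_simp at hu
    have : ((S.g : ℚ) * (S.e D * S.e C * S.e C' + S.e C * S.e C' + 9 * S.e D * (S.e C + S.e C'))) =
        144000 * S.e D * S.e C * S.e C' := by linear_combination hu
    exact_mod_cast this
  have zb : (S.g : ℤ) * (25 * (S.e A + S.e A') * S.e C * S.e C' + 9 * S.e A * S.e A' * (S.e C + S.e C')) =
      57600 * S.e A * S.e A' * S.e C * S.e C' := by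
    field_simp at hb
    have : ((S.g : ℚ) * (25 * (S.e A + S.e A') * S.e C * S.e C' + 9 * S.e A * S.e A' * (S.e C + S.e C'))) =
        57600 * S.e A * S.e A' * S.e C * S.e C' := by linear_combination hb
    exact_mod_cast this
  rcases search_one (g := S.g) (D := S.e D) (C := S.e C) (C' := S.e C') (A := S.e A) (A' := S.e A') (by omega)
    (by omega) (by omega) (by omega) (by omega) hDv hCv hCv' (by linarith) (by linarith) (by linarith) hCle hAle
    neA neA' S.g_pos (by have := S.g_mod; omega) dvD dvC dvC' zu zb with h | ⟨hg9, eD, eC, eC', eA, eA'⟩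
  · left; exact_mod_cast h
  right
  refine ⟨by exact_mod_cast hg9, ?_⟩
  obtain ⟨p, m, hpm, hpo, hmo, hp, hm, hdpm, hLp, hLm, hz⟩ := S.h_pair
  have dpos := S.d_pos
  have sgn : ∀ {i : ι} {e : ℤ}, S.d i = S.sg i * e → (S.sg i = 1 ∨ S.sg i = -1) →
      (e < 0 → S.sg i = -1) ∧ (0 < e → S.sg i = 1) := fun {i e} h hs => by
    have := dpos i; rcases hs with x | x <;> rw [x] at h ⊢ <;> omega
  have sD := (sgn deD (S.terms mD (x := 1) rfl (by norm_num)).1).1 (by omega)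
  have sC := (sgn deC (S.terms mC (x := 3) rfl (by norm_num)).1).1 (by omega)
  have sC' := (sgn deC' (S.terms mC' (x := 3) rfl (by norm_num)).1).2 (by omega)
  have sA := (sgn deA (S.terms mA (x := 5) rfl (by norm_num)).1).1 (by omega)
  have sA' := (sgn deA' (S.terms mA' (x := 5) rfl (by norm_num)).1).2 (by omega)
  rw [sC] at sB; rw [sC'] at sB'
  rw [sD] at uD wD bD deD XD LD; rw [sC] at uC wC bC deC XC LC; rw [sC'] at uC' wC' bC' deC' XC' LC'
  rw [sA] at uA wA bA deA XA LA; rw [sA'] at uA' wA' bA' deA' XA' LA'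
  rw [sB] at uB wB bB deB XB LB; rw [sB'] at uB' wB' bB' deB' XB' LB'
  rw [eB, eC] at deB; rw [eB', eC'] at deB'
  rw [eD] at deD; rw [eC] at deC; rw [eC'] at deC'; rw [eA] at deA; rw [eA'] at deA'
  norm_num at uD wD bD deD XD LD uC wC bC deC XC LC uC' wC' bC' deC' XC' LC' uA wA bA deA XA LA uA' wA' bA' deA' XA' LA' uB wB bB deB XB LB uB' wB' bB' deB' XB' LB'
  have Xp : S.X p = 4 := by rw [S.X_L, hLp, hp]; norm_num
  have Xm : S.X m = -4 := by rw [S.X_L, hLm, hm]; norm_num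
  refine ⟨D, C, C', S.σ C, S.σ C', A, A', p, m, ⟨deD, XD⟩, ⟨deC, XC⟩, ⟨deB, XB⟩, ⟨deA, XA⟩,
    ⟨hpm, hdpm, Xp, Xm⟩, fun h => by rw [h] at deD; omega, fun f => ?_⟩
  have sumh : ∀ q : ι → ℂ, (∀ i, S.h i = 0 → q i = 0) → ∑ i, q i = q p + q m := fun q hq =>
    Finset.sum_eq_add p m hpm (fun i _ h => hq i (hz i h.1 h.2))
      (fun h => absurd (Finset.mem_univ p) h) (fun h => absurd (Finset.mem_univ m) h)
  have sumT : ∀ q : ι → ℂ, (∀ i, i ≠ S.o → S.u i = 0 → S.w i = 0 → S.β i = 0 → q i = 0) →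
      ∑ i, q i = q S.o + (q A + q A' + (q (S.σ C) + q (S.σ C') + (q C + q C' + q D))) := by
    intro q hq
    rw [S.expand [(0, 0, 1), (0, 1, 1), (1, 0, 0), (1, 1, 0)] (by decide) q fun i hi hT => by
      obtain ⟨a, b, c⟩ := S.off hl hi hT
      exact hq i hi a b c]
    simp only [List.map_cons, List.map_nil, List.sum_cons, List.sum_nil, hA, hB, hC, hD, Finset.sum_pair hAA,
      Finset.sum_pair hBB, Finset.sum_pair hCC, Finset.sum_singleton, add_zero]
  refine ⟨?_, ?_, ?_, ?_, ?_⟩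
  · rw [sumT _ (fun i _ a _ _ => by simp [a])]
    simp only [S.u_o, uA, uA', uB, uB', uC, uC', uD]; push_cast; ring
  · rw [sumT _ (fun i _ _ b _ => by simp [b])]
    simp only [S.w_o, wA, wA', wB, wB', wC, wC', wD]; push_cast; ring
  · rw [sumT _ (fun i _ _ _ c => by simp [c])]
    simp only [S.β_o, bA, bA', bB, bB', bC, bC', bD]; push_cast; ring
  · rw [sumh _ (fun i h => by simp [h]), hp, hm]; push_cast; ring
  · have hsplit : ∀ i, (S.X i : ℂ) ^ 2 * f i / (S.d i : ℂ) =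
        (S.L i : ℂ) ^ 2 * f i / (S.d i : ℂ) + 16 * (S.h i : ℂ) ^ 2 * f i / (S.d i : ℂ) := fun i => by
      have : S.L i * S.h i = 0 := by
        by_cases h : S.L i = 0
        · rw [h, zero_mul]
        · rw [S.h_zero_of_L h, mul_zero]
      have : (S.L i : ℂ) * (S.h i : ℂ) = 0 := by exact_mod_cast this
      rw [S.X_L]; push_cast
      linear_combination (8 * f i / (S.d i : ℂ)) * this
    rw [Finset.sum_congr rfl fun i _ => hsplit i, Finset.sum_add_distrib,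
      sumT _ (fun i _ a b c => by simp [Sys.L, a, b, c]), sumh _ (fun i h => by simp [h])]
    have Lo : S.L S.o = 1 := by rw [Sys.L, S.u_o, S.w_o, S.β_o]; norm_num
    simp only [Lo, S.d_o, LA, LA', LB, LB', LC, LC', LD, deA, deA', deB, deB', deC, deC', deD, hp, hm, ← hdpm]
    push_cast; ring

theorem rest_zero {l : List (ℤ × ℤ × ℤ)} (h : (types.filter fun T => !(l.contains T)).map (fun T => (S.F T).card) =
    List.replicate (types.filter fun T => !(l.contains T)).length 0) :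
    ∀ T ∈ types, T ∉ l → (S.F T).card = 0 := fun T hT hT' => by
  have hm : (S.F T).card ∈ (types.filter fun T => !(l.contains T)).map (fun T => (S.F T).card) :=
    List.mem_map.mpr ⟨T, List.mem_filter.mpr ⟨hT, by simpa using hT'⟩, rfl⟩
  rw [h] at hm
  exact List.eq_of_mem_replicate hm

/-- The order, up to one exceptional configuration. -/
theorem order : S.g = 175560 ∨ S.g = 189000 ∧ S.Bad := by
  obtain ⟨n, hn, hpat⟩ := S.patterns
  simp only [types, List.map_cons, List.map_nil, List.cons.injEq, and_true] at hpat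
  simp only [types, List.mem_cons, List.not_mem_nil, or_false, forall_eq_or_imp, forall_eq] at hn
  obtain ⟨c1, c2, c3, c4, c5, c6, c7, c8, c9, c10, c11, c12, c13⟩ := hn
  rcases hpat with h | h | h
  all_goals obtain ⟨a1, a2, a3, a4, a5, a6, a7, a8, a9, a10, a11, a12, a13⟩ := h
  all_goals rw [a1] at c1; rw [a2] at c2; rw [a3] at c3; rw [a4] at c4; rw [a5] at c5; rw [a6] at c6
  all_goals rw [a7] at c7; rw [a8] at c8; rw [a9] at c9; rw [a10] at c10; rw [a11] at c11; rw [a12] at c12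
  all_goals rw [a13] at c13
  · obtain ⟨D, hD⟩ := Finset.card_eq_one.mp c8
    obtain ⟨C, C', hCC, hC⟩ := Finset.card_eq_two.mp c5
    obtain ⟨A, A', hAA, hA⟩ := Finset.card_eq_two.mp c1
    have hl : ∀ T ∈ types, T ∉ [(0, 0, 1), (0, 1, 1), (1, 0, 0), (1, 1, 0)] → (S.F T).card = 0 :=
      S.rest_zero (by show [_, _, _, _, _, _, _, _, _] = _; simp only []; rw [c2, c4, c6, c7, c9, c10, c11, c12, c13]; rfl)
    rcases le_total (S.e C) (S.e C') with h | h <;> rcases le_total (S.e A) (S.e A') with h' | h'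
    · exact S.pattern_one hD hC hCC hA hAA h h' c3 hl
    · exact S.pattern_one hD hC hCC (hA.trans (Finset.pair_comm A A')) hAA.symm h h' c3 hl
    · exact S.pattern_one hD (hC.trans (Finset.pair_comm C C')) hCC.symm hA hAA h h' c3 hl
    · exact S.pattern_one hD (hC.trans (Finset.pair_comm C C')) hCC.symm (hA.trans (Finset.pair_comm A A'))
        hAA.symm h h' c3 hl
  · refine absurd ?_ id
    exact S.pattern_two c8 c9 c13 (S.rest_zero (by
      show [_, _, _, _, _, _, _, _, _] = _; simp only []; rw [c2, c3, c4, c5, c6, c7, c10, c11, c12]; rfl))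
  · refine absurd ?_ id
    exact S.pattern_three c1 c2 c3 c5 c7 c9 (S.rest_zero (by
      show [_, _, _, _, _, _, _] = _; simp only []; rw [c4, c6, c8, c10, c11, c12, c13]; rfl))

end Cfsg.Agent.JankoOneOrder.Sys
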