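/-
Averaging a representation over a subgroup of order eight normalised by an element of order seven.
-/
import Cfsg.Agent.Lib.Char.Basic

set_option autoImplicit false

namespace Cfsg.Agent.JankoOneOrder

open Cfsg Module

variable {G : Type*} [Group G]

/-- The fixed-point count of a character on a subgroup `P`, and the values at an element `a`
normalising `P` whose translates by `P` are conjugate to it. -/
theorem avg [Finite G] {χ : G → ℂ} (hχ : IsCharacter G χ) (P : Subgroup G) :
    ∃ m : ℕ, ∑ᶠ s : P, χ s = (Nat.card P : ℂ) * m ∧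
      ∀ a : G, a ^ 7 = 1 → (∀ s ∈ P, IsConj a (a * s)) → (∀ s ∈ P, IsConj a (a ^ 2 * s)) →
        (∀ s ∈ P, a * s * a⁻¹ ∈ P) → (m = 0 → χ a = 0) ∧ (m = 1 → χ a = 1) := by
  classical
  have := Fintype.ofFinite P
  obtain ⟨n, ρ, rfl⟩ := hχ
  let M : (Fin n → ℂ) →ₗ[ℂ] (Fin n → ℂ) := ∑ s : P, ρ (s : G)
  let E : (Fin n → ℂ) →ₗ[ℂ] (Fin n → ℂ) := ((Nat.card P : ℂ)⁻¹) • M
  have hP0 : (Nat.card P : ℂ) ≠ 0 := Nat.cast_ne_zero.mpr Nat.card_pos.ne'
  have hsM : ∀ s : P, ρ (s : G) * M = M := fun s => by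
    rw [Finset.mul_sum]
    exact Fintype.sum_equiv (Equiv.mulLeft s) _ _ fun x => by
      rw [← map_mul]; rfl
  have hMM : M * M = (Nat.card P : ℂ) • M := by
    calc M * M = ∑ s : P, ρ (s : G) * M := Finset.sum_mul _ _ _
      _ = ∑ _s : P, M := Finset.sum_congr rfl fun s _ => hsM s
      _ = _ := by rw [Finset.sum_const, Finset.card_univ, ← Nat.card_eq_fintype_card, Nat.cast_smul_eq_nsmul]
  have hEE : E * E = E := by
    show ((Nat.card P : ℂ)⁻¹ • M) * ((Nat.card P : ℂ)⁻¹ • M) = (Nat.card P : ℂ)⁻¹ • M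
    rw [smul_mul_smul_comm, hMM, smul_smul, mul_assoc, inv_mul_cancel₀ hP0, mul_one]
  have hfix : ∀ v ∈ LinearMap.range E, E v = v := by
    rintro v ⟨w, rfl⟩
    exact LinearMap.congr_fun hEE w
  have hproj : LinearMap.IsProj (LinearMap.range E) E := ⟨fun x => LinearMap.mem_range_self E x, hfix⟩
  have htr := hproj.trace
  refine ⟨finrank ℂ (LinearMap.range E), ?_, ?_⟩
  · rw [← htr, map_smul, smul_eq_mul, ← mul_assoc, mul_inv_cancel₀ hP0, one_mul, map_sum,
      finsum_eq_sum_of_fintype]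
    rfl
  intro a ha7 hconj hconj2 hnorm
  have htra : ∀ b : G, (∀ s ∈ P, IsConj a (b * s)) → LinearMap.trace ℂ _ (ρ b * E) = ρ.character a := by
    intro b hb
    rw [mul_smul_comm, map_smul, smul_eq_mul, Finset.mul_sum, map_sum]
    have : ∀ s : P, LinearMap.trace ℂ _ (ρ b * ρ (s : G)) = ρ.character a := fun s => by
      obtain ⟨x, hx⟩ := isConj_iff.mp (hb s s.2)
      rw [← map_mul, show b * (s : G) = x * a * x⁻¹ from hx.symm]
      exact Representation.char_conj ρ a x
    rw [Finset.sum_congr rfl fun s _ => this s, Finset.sum_const, Finset.card_univ, nsmul_eq_mul,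
      ← Nat.card_eq_fintype_card, ← mul_assoc, inv_mul_cancel₀ hP0, one_mul]
  have ha := htra a hconj
  have ha2 := htra (a ^ 2) hconj2
  refine ⟨fun h0 => ?_, fun h1 => ?_⟩
  · have hE0 : E = 0 := LinearMap.range_eq_bot.mp (Submodule.finrank_eq_zero.mp h0)
    rw [← ha, hE0, mul_zero, map_zero]
  · have hcomm : ρ a * E = E * ρ a := by
      have hbij : Function.Bijective (fun s : P => (⟨a * s * a⁻¹, hnorm s s.2⟩ : P)) := by
        refine Finite.injective_iff_bijective.mp fun x y h => Subtype.ext ?_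
        exact mul_left_cancel (mul_right_cancel (congrArg Subtype.val h))
      show ρ a * ((Nat.card P : ℂ)⁻¹ • M) = ((Nat.card P : ℂ)⁻¹ • M) * ρ a
      rw [mul_smul_comm, smul_mul_assoc, Finset.mul_sum, Finset.sum_mul]
      congr 1
      refine Fintype.sum_equiv (Equiv.ofBijective _ hbij) _ _ fun s => ?_
      rw [← map_mul, ← map_mul]
      show ρ (a * s) = ρ (a * s * a⁻¹ * a)
      rw [inv_mul_cancel_right]
    obtain ⟨v, hv0, hspan⟩ := finrank_eq_one_iff'.mp h1
    have hmem : ρ a (v : Fin n → ℂ) ∈ LinearMap.range E :=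
      ⟨ρ a v, by
        have := LinearMap.congr_fun hcomm (v : Fin n → ℂ)
        rw [Module.End.mul_apply, Module.End.mul_apply, hfix v v.2] at this
        exact this.symm⟩
    obtain ⟨c, hc⟩ := hspan ⟨_, hmem⟩
    have hcv : ρ a (v : Fin n → ℂ) = c • (v : Fin n → ℂ) := (congrArg Subtype.val hc).symm
    have hv0' : (v : Fin n → ℂ) ≠ 0 := fun h => hv0 (Subtype.ext h)
    have hpow : ∀ k : ℕ, ρ (a ^ k) * E = c ^ k • E := by
      intro k
      induction k with
      | zero => rw [pow_zero, map_one, one_mul, pow_zero, one_smul]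
      | succ k ih =>
        rw [pow_succ', map_mul, mul_assoc, ih, mul_smul_comm]
        refine LinearMap.ext fun x => ?_
        obtain ⟨r, hr⟩ := hspan ⟨E x, LinearMap.mem_range_self E x⟩
        have hr' : E x = r • (v : Fin n → ℂ) := (congrArg Subtype.val hr).symm
        show c ^ k • ρ a (E x) = c ^ (k + 1) • E x
        rw [hr', map_smul, hcv, smul_smul, smul_smul, smul_smul, pow_succ]
        ring_nf
    have hval : ∀ b : ℕ, LinearMap.trace ℂ _ (ρ (a ^ b) * E) = c ^ b := fun b => by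
      rw [hpow, map_smul, htr, h1, Nat.cast_one, smul_eq_mul, mul_one]
    have e1 : c = ρ.character a := by rw [← ha, ← pow_one c, ← hval, pow_one]
    have e2 : c ^ 2 = ρ.character a := by rw [← ha2, hval]
    have e7 : c ^ 7 = 1 := by
      rw [← hval, ha7, map_one, one_mul, htr, h1, Nat.cast_one]
    have hc0 : c ≠ 0 := fun h => by rw [h] at e7; norm_num at e7
    rw [← e1] at e2 ⊢
    exact mul_left_cancel₀ hc0 (by rw [mul_one, ← pow_two, e2])

end Cfsg.Agent.JankoOneOrder
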