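/-
Finite facts about `C₂ × A₅` used for the order of Janko's first group.
-/
import Mathlib

set_option autoImplicit false
set_option synthInstance.maxSize 2048
set_option synthInstance.maxHeartbeats 200000

namespace Cfsg.Agent.JankoOneOrder

/-- The group `C₂ × A₅`. -/
abbrev Mdl := Multiplicative (ZMod 2) × alternatingGroup (Fin 5)

def m1 : Mdl := (Multiplicative.ofAdd 1, 1)

def v3 : Equiv.Perm (Fin 5) := Equiv.swap 0 1 * Equiv.swap 1 2

def v5 : Equiv.Perm (Fin 5) := Equiv.swap 0 1 * Equiv.swap 1 2 * Equiv.swap 2 3 * Equiv.swap 3 4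

def m2 : Mdl := (Multiplicative.ofAdd 1, ⟨v3, Equiv.Perm.mem_alternatingGroup.mpr (by decide +kernel)⟩)

def m3 : Mdl := (Multiplicative.ofAdd 1, ⟨v5, Equiv.Perm.mem_alternatingGroup.mpr (by decide +kernel)⟩)

def m4 : Mdl := m3 ^ 7

/-- The involutions `x` with `x * c` an involution. -/
def InvPair (c x : Mdl) : Prop := x * x = 1 ∧ x ≠ 1 ∧ (x * c) * (x * c) = 1 ∧ x * c ≠ 1

instance (c : Mdl) : DecidablePred (InvPair c) := fun x => by unfold InvPair; infer_instance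

theorem card_mdl : Nat.card Mdl = 120 := by
  rw [Nat.card_eq_fintype_card]; decide +kernel

theorem central_eq : ∀ x : Mdl, (∀ y, x * y = y * x) → x = 1 ∨ x = m1 := by decide +kernel

theorem m1_central : ∀ y : Mdl, m1 * y = y * m1 := by decide +kernel

theorem two_elt : ∀ x : Mdl, x ^ 8 = 1 → x * x = 1 := by decide +kernel

theorem four_cent : ∀ x y : Mdl, x * x = 1 → y * y = 1 → x * y = y * x → x.2 ≠ 1 → y.2 ≠ 1 → x.2 ≠ y.2 →
    ∀ z : Mdl, z * x = x * z → z * y = y * z → z * z = 1 := by decide +kernel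

theorem four_norm : ∀ x y : Mdl, x * x = 1 → y * y = 1 → x * y = y * x → x.2 ≠ 1 → y.2 ≠ 1 → x.2 ≠ y.2 →
    ∃ v : Mdl, v ^ 3 = 1 ∧ v * x * v⁻¹ = (x.1, y.2) ∧ v * y * v⁻¹ = (y.1, x.2 * y.2) ∧
      ∀ z : Mdl, z * x = x * z → z * y = y * z → v * z * v⁻¹ = z → z.2 = 1 := by
  decide +kernel

theorem four_bound : ∀ x y : Mdl, x * x = 1 → y * y = 1 → x * y = y * x → x.2 ≠ 1 → y.2 ≠ 1 → x.2 ≠ y.2 →
    Fintype.card {z : Mdl // (z * x * z⁻¹) * x = x * (z * x * z⁻¹) ∧ (z * x * z⁻¹) * y = y * (z * x * z⁻¹) ∧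
      (z * y * z⁻¹) * x = x * (z * y * z⁻¹) ∧ (z * y * z⁻¹) * y = y * (z * y * z⁻¹)} ≤ 24 := by
  decide +kernel

theorem ord_m : m1 ^ 2 = 1 ∧ m2 ^ 6 = 1 ∧ m3 ^ 10 = 1 ∧ m2 ^ 3 = m1 ∧ m3 ^ 5 = m1 ∧ m4 ^ 5 = m1 := by
  decide +kernel

theorem conj_inv : ∀ c ∈ [m1, m2, m3, m4], ∃ x, x * c * x⁻¹ = c⁻¹ := by decide +kernel

theorem conj_m4_pow : (∃ x, x * (m4 ^ 7) * x⁻¹ = m3) ∧ (∃ x, x * (m3 ^ 3) * x⁻¹ = m4) := by
  decide +kernel

theorem not_conj : ∀ x : Mdl, x * m3 * x⁻¹ ≠ m4 := by decide +kernel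

theorem card_cent :
    [m1, m2, m3, m4].map (fun c => Fintype.card {z : Mdl // z * c = c * z}) = [120, 6, 10, 10] := by
  decide +kernel

theorem card_invPair :
    [m1, m2, m3, m4].map (fun c => Fintype.card {x : Mdl // InvPair c x}) = [30, 6, 10, 10] := by
  decide +kernel

theorem not_comm : m2 * m3 ≠ m3 * m2 := by decide +kernel

end Cfsg.Agent.JankoOneOrder
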