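/-
The 2-local structure of a simple group with a 2-central involution centraliser `C₂ × A₅`:
one class of involutions, a Sylow 2-normaliser of order 168, and the order modulo 1680.
-/
import Cfsg.Agent.Lib.JankoOneOrder.Model
import Cfsg.Agent.Lib.Transfer.Focal
import Cfsg.Agent.Lib.Char.Orth
import Cfsg.Prelude.Def_SporadicB

set_option autoImplicit false

namespace Cfsg.Agent.JankoOneOrder

open Cfsg Subgroup
open scoped commutatorElement

theorem zmod2_cases : ∀ i : Multiplicative (ZMod 2), i = 1 ∨ i = Multiplicative.ofAdd 1 := by decide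

theorem m1_fst : m1.1 ≠ 1 := by decide

variable {G : Type*} [Group G]

/-- The properties used in the character computations. -/
structure LocalData (G : Type*) [Group G] (t : G) : Prop where
  invol : ∀ x : G, x * x = 1 → x ≠ 1 → IsConj t x
  modulus : Nat.card G % 1680 = 840
  noncomm : ¬ IsMulCommutative G
  seven : ∃ (a : G) (P : Subgroup G), Nat.card P = 8 ∧ (∀ x ∈ P, x * x = 1) ∧ a ^ 7 = 1 ∧ a ≠ 1 ∧
    IsConj a (a ^ 2) ∧ (∀ s ∈ P, IsConj a (a * s)) ∧ (∀ s ∈ P, IsConj a (a ^ 2 * s)) ∧ ∀ s ∈ P, a * s * a⁻¹ ∈ P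

theorem e_t {t : G} (ht : orderOf t = 2) (e : centralizer ({t} : Set G) ≃* Mdl) :
    e ⟨t, mem_centralizer_singleton_iff.mpr rfl⟩ = m1 := by
  refine (central_eq _ fun y => ?_).resolve_left fun h => ?_
  · obtain ⟨z, rfl⟩ := e.surjective y
    rw [← map_mul, ← map_mul]
    congr 1
    exact Subtype.ext (mem_centralizer_singleton_iff.mp z.2).symm
  · rw [MulEquiv.map_eq_one_iff] at h
    rw [show t = 1 from congrArg Subtype.val h, orderOf_one] at ht
    omega

theorem card_cent_t {t : G} (e : centralizer ({t} : Set G) ≃* Mdl) :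
    Nat.card (centralizer ({t} : Set G)) = 120 := by
  rw [Nat.card_congr e.toEquiv, card_mdl]

theorem seven_no_commute [Finite G] {t : G} (e : centralizer ({t} : Set G) ≃* Mdl)
    (hinv : ∀ x : G, x * x = 1 → x ≠ 1 → IsConj t x) {s c : G} (hs : s * s = 1) (hs1 : s ≠ 1)
    (hc : c ^ 7 = 1) (hcomm : c * s = s * c) : c = 1 := by
  obtain ⟨g, hg⟩ := isConj_iff.mp (hinv s hs hs1)
  have hmem : g⁻¹ * c * g ∈ centralizer ({t} : Set G) := by
    rw [mem_centralizer_singleton_iff]
    have h : t = g⁻¹ * s * g := by rw [← hg]; group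
    rw [h, show g⁻¹ * c * g * (g⁻¹ * s * g) = g⁻¹ * (c * s) * g by group, hcomm]; group
  have h7 : (⟨_, hmem⟩ : centralizer ({t} : Set G)) ^ 7 = 1 := by
    apply Subtype.ext
    show (g⁻¹ * c * g) ^ 7 = 1
    rw [show g⁻¹ * c * g = g⁻¹ * c * g⁻¹⁻¹ by rw [inv_inv], conj_pow, hc]; group
  have h120 := pow_card_eq_one' (x := (⟨_, hmem⟩ : centralizer ({t} : Set G)))
  rw [card_cent_t e] at h120
  have h1 : (⟨_, hmem⟩ : centralizer ({t} : Set G)) = 1 := by
    calc (⟨_, hmem⟩ : centralizer ({t} : Set G))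
        = ⟨_, hmem⟩ ^ 120 * ((⟨_, hmem⟩ : centralizer ({t} : Set G)) ^ 7) ^ (-17 : ℤ) := by group
      _ = 1 := by rw [h120, h7]; simp
  have h2 : g⁻¹ * c * g = 1 := congrArg Subtype.val h1
  calc c = g * (g⁻¹ * c * g) * g⁻¹ := by group
    _ = 1 := by rw [h2]; group

variable [Finite G] [IsSimpleGroup G]

theorem localData {t : G} (ht : IsTwoCentralInvolution t) (e : centralizer ({t} : Set G) ≃* Mdl) :
    LocalData G t := by
  classical
  have := Fintype.ofFinite G
  have : Fact (Nat.Prime 2) := ⟨Nat.prime_two⟩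
  have : Fact (Nat.Prime 7) := ⟨by norm_num⟩
  obtain ⟨ht2, P, htP, hcomm⟩ := ht
  have hC : Nat.card (centralizer ({t} : Set G)) = 120 := card_cent_t e
  have hPC : (P : Subgroup G) ≤ centralizer ({t} : Set G) := fun x hx =>
    mem_centralizer_singleton_iff.mpr (hcomm x hx)
  have het := e_t ht2 e
  have ht1 : t ≠ 1 := by intro h; rw [h, orderOf_one] at ht2; omega
  have htt : t * t = 1 := by rw [← pow_two, ← ht2, pow_orderOf_eq_one]
  -- noncommutative
  have hnc : ¬ IsMulCommutative G := by
    intro h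
    obtain ⟨a, ha⟩ := e.surjective m2
    obtain ⟨b, hb⟩ := e.surjective m3
    have : a * b = b * a := Subtype.ext (h.1.comm (a : G) (b : G))
    have := congrArg e this
    rw [map_mul, map_mul, ha, hb] at this
    exact not_comm this
  -- order of P
  obtain ⟨k, hk⟩ := IsPGroup.iff_card.mp P.isPGroup'
  have hodd : ¬ 2 ∣ (P : Subgroup G).index := P.not_dvd_index
  have hrel := relIndex_mul_index hPC
  have hrel' : Nat.card (P : Subgroup G) * (P : Subgroup G).relIndex (centralizer ({t} : Set G)) = 120 := by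
    rw [relIndex, ← Nat.card_congr (subgroupOfEquivOfLe hPC).toEquiv, card_mul_index, hC]
  have hoddr : ¬ 2 ∣ (P : Subgroup G).relIndex (centralizer ({t} : Set G)) := fun h =>
    hodd (hrel ▸ h.mul_right _)
  have hP8 : Nat.card (P : Subgroup G) = 8 := by
    rw [hk] at hrel' ⊢
    have : k ≤ 6 := by
      by_contra hk7
      have h128 : 2 ^ 7 ∣ 120 := (pow_dvd_pow 2 (by omega : 7 ≤ k)).trans (Dvd.intro _ hrel')
      norm_num at h128
    interval_cases k <;> omega
  -- exponent two
  have hsqC : ∀ z : centralizer ({t} : Set G), e z * e z = 1 → (z : G) * z = 1 := fun z hz => by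
    rw [← map_mul, MulEquiv.map_eq_one_iff] at hz
    exact congrArg Subtype.val hz
  have hP2 : ∀ x ∈ (P : Subgroup G), x * x = 1 := by
    intro x hx
    refine hsqC ⟨x, hPC hx⟩ (two_elt _ ?_)
    rw [← map_pow, MulEquiv.map_eq_one_iff]
    apply Subtype.ext
    have h := pow_card_eq_one' (x := (⟨x, hx⟩ : (P : Subgroup G)))
    rw [hP8] at h
    exact (congrArg Subtype.val h :)
  have hPcomm : ∀ x ∈ (P : Subgroup G), ∀ y ∈ (P : Subgroup G), x * y = y * x := fun x hx y hy => by
    have h1 := hP2 _ (mul_mem hx hy)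
    calc x * y = (x * y)⁻¹ := (inv_eq_of_mul_eq_one_right h1).symm
      _ = y⁻¹ * x⁻¹ := mul_inv_rev x y
      _ = y * x := by rw [inv_eq_of_mul_eq_one_right (hP2 x hx), inv_eq_of_mul_eq_one_right (hP2 y hy)]
  -- the image in the model
  let f : ↥(P : Subgroup G) → Mdl := fun p => e ⟨p, hPC p.2⟩
  have hf : Function.Injective f := fun p q h => Subtype.ext (Subtype.mk.inj (e.injective h))
  have hnot : ∀ j : alternatingGroup (Fin 5), ∃ p, (f p).2 ≠ 1 ∧ (f p).2 ≠ j := by
    intro j
    by_contra hcon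
    push Not at hcon
    have hsub : Finset.univ.image f ⊆ (Finset.univ : Finset (Multiplicative (ZMod 2))) ×ˢ {1, j} := by
      intro z hz
      obtain ⟨p, -, rfl⟩ := Finset.mem_image.mp hz
      simp only [Finset.mem_product, Finset.mem_univ, true_and, Finset.mem_insert, Finset.mem_singleton]
      exact or_iff_not_imp_left.mpr (hcon p)
    have h1 := Finset.card_le_card hsub
    rw [Finset.card_image_of_injective _ hf, Finset.card_product, Finset.card_univ,
      ← Nat.card_eq_fintype_card, hP8] at h1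
    have h2 : Fintype.card (Multiplicative (ZMod 2)) = 2 := rfl
    have h3 := Finset.card_le_two (a := (1 : alternatingGroup (Fin 5))) (b := j)
    rw [Finset.card_univ, h2] at h1
    omega
  obtain ⟨px, hx1, -⟩ := hnot 1
  obtain ⟨py, hy1, hxy⟩ := hnot (f px).2
  have hfmul : ∀ p q : ↥(P : Subgroup G), f (p * q) = f p * f q := fun p q =>
    map_mul e ⟨(p : G), hPC p.2⟩ ⟨(q : G), hPC q.2⟩
  have hf2 : ∀ p, f p * f p = 1 := fun p => by
    rw [← hfmul, show p * p = 1 from Subtype.ext (hP2 _ p.2)]; exact map_one e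
  have hfc : ∀ p q, f p * f q = f q * f p := fun p q => by
    rw [← hfmul, ← hfmul]; exact congrArg f (Subtype.ext (hPcomm _ p.2 _ q.2))
  -- the elements of `C` commuting with `x` and `y` lie in `P`
  have hcentP : ∀ z : centralizer ({t} : Set G), e z * f px = f px * e z →
      e z * f py = f py * e z → (z : G) ∈ (P : Subgroup G) := by
    let Q : Subgroup G := centralizer ({t, (px : G), (py : G)} : Set G)
    have hPQ : (P : Subgroup G) ≤ Q := fun p hp => mem_centralizer_iff.mpr fun q hq => by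
      rcases hq with rfl | rfl | rfl
      · exact hPcomm _ htP _ hp
      · exact hPcomm _ px.2 _ hp
      · exact hPcomm _ py.2 _ hp
    have hQ : IsPGroup 2 Q := by
      rintro ⟨z, hz⟩
      refine ⟨1, Subtype.ext ?_⟩
      have hzC : z ∈ centralizer ({t} : Set G) :=
        mem_centralizer_singleton_iff.mpr ((mem_centralizer_iff.mp hz) t (by simp)).symm
      have hzx : e ⟨z, hzC⟩ * f px = f px * e ⟨z, hzC⟩ := by
        rw [← map_mul, ← map_mul]
        exact congrArg e (Subtype.ext ((mem_centralizer_iff.mp hz) px (by simp)).symm)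
      have hzy : e ⟨z, hzC⟩ * f py = f py * e ⟨z, hzC⟩ := by
        rw [← map_mul, ← map_mul]
        exact congrArg e (Subtype.ext ((mem_centralizer_iff.mp hz) py (by simp)).symm)
      rw [pow_one, SubmonoidClass.coe_pow, pow_two, OneMemClass.coe_one]
      exact hsqC ⟨z, hzC⟩ (four_cent _ _ (hf2 px) (hf2 py) (hfc px py) hx1 hy1 hxy.symm _ hzx hzy)
    intro z h1 h2
    rw [← P.is_maximal' hQ hPQ]
    refine mem_centralizer_iff.mpr fun q hq => ?_
    rcases hq with rfl | rfl | rfl
    · exact (mem_centralizer_singleton_iff.mp z.2).symm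
    · rw [← map_mul, ← map_mul] at h1; exact (congrArg Subtype.val (e.injective h1)).symm
    · rw [← map_mul, ← map_mul] at h2; exact (congrArg Subtype.val (e.injective h2)).symm
  -- an element of order three in the normaliser
  obtain ⟨v', hv3, hvx, hvy, hvfix⟩ := four_norm _ _ (hf2 px) (hf2 py) (hfc px py) hx1 hy1 hxy.symm
  obtain ⟨vC, hvC⟩ := e.surjective v'
  set v : G := (vC : G) with hv
  have hvt : v * t = t * v := mem_centralizer_singleton_iff.mp vC.2
  have hvP : ∀ p ∈ (P : Subgroup G), v * p * v⁻¹ ∈ (P : Subgroup G) := by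
    intro p hp
    have key : e (vC * ⟨p, hPC hp⟩ * vC⁻¹) = v' * f ⟨p, hp⟩ * v'⁻¹ := by
      rw [map_mul, map_mul, map_inv, hvC]
    have cx := congrArg (fun z => v' * z * v'⁻¹) (hfc ⟨p, hp⟩ px)
    have cy := congrArg (fun z => v' * z * v'⁻¹) (hfc ⟨p, hp⟩ py)
    rw [show v' * (f ⟨p, hp⟩ * f px) * v'⁻¹ = (v' * f ⟨p, hp⟩ * v'⁻¹) * (v' * f px * v'⁻¹) by group,
      show v' * (f px * f ⟨p, hp⟩) * v'⁻¹ = (v' * f px * v'⁻¹) * (v' * f ⟨p, hp⟩ * v'⁻¹) by group,
      hvx, ← key] at cx
    rw [show v' * (f ⟨p, hp⟩ * f py) * v'⁻¹ = (v' * f ⟨p, hp⟩ * v'⁻¹) * (v' * f py * v'⁻¹) by group,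
      show v' * (f py * f ⟨p, hp⟩) * v'⁻¹ = (v' * f py * v'⁻¹) * (v' * f ⟨p, hp⟩ * v'⁻¹) by group,
      hvy, ← key] at cy
    have c1 := congrArg Prod.snd cx
    have c2 := congrArg Prod.snd cy
    simp only [Prod.snd_mul] at c1 c2
    set q := (e (vC * ⟨p, hPC hp⟩ * vC⁻¹)).2
    have ha : (f py).2 * (f py).2 = 1 := congrArg Prod.snd (hf2 py)
    have hab : (f px).2 * (f py).2 = (f py).2 * (f px).2 := congrArg Prod.snd (hfc px py)
    have c3 : q * (f px).2 = (f px).2 * q := by
      have e1 : (f px).2 * (f py).2 * (f py).2 = (f px).2 := by rw [mul_assoc, ha, mul_one]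
      calc q * (f px).2 = q * ((f px).2 * (f py).2) * (f py).2 := by rw [mul_assoc, e1]
        _ = (f px).2 * (f py).2 * (q * (f py).2) := by rw [c2, mul_assoc]
        _ = (f px).2 * (f py).2 * ((f py).2 * q) := by rw [c1]
        _ = (f px).2 * q := by rw [← mul_assoc, e1]
    exact hcentP _ (Prod.ext (mul_comm _ _) c3) (Prod.ext (mul_comm _ _) c1)
  have hvfix' : ∀ p ∈ (P : Subgroup G), v * p * v⁻¹ = p → p = 1 ∨ p = t := by
    intro p hp hfix
    have h2 : (f ⟨p, hp⟩).2 = 1 := by
      refine hvfix _ (hfc _ _) (hfc _ _) ?_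
      rw [← hvC, ← map_inv, ← map_mul, ← map_mul]
      exact congrArg e (Subtype.ext hfix)
    rcases zmod2_cases (f ⟨p, hp⟩).1 with h | h
    · left
      have : f ⟨p, hp⟩ = e 1 := by rw [map_one]; exact Prod.ext h h2
      exact congrArg Subtype.val (e.injective this)
    · right
      have : f ⟨p, hp⟩ = e ⟨t, mem_centralizer_singleton_iff.mpr rfl⟩ := by rw [het]; exact Prod.ext h h2
      exact congrArg Subtype.val (e.injective this)
  have hv3' : v ^ 3 = 1 := by
    have : vC ^ 3 = 1 := e.injective (by rw [map_pow, hvC, hv3, map_one])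
    rw [hv, ← SubmonoidClass.coe_pow, this, OneMemClass.coe_one]
  have hv33 : v * v * v = 1 := by rw [← hv3', pow_succ, pow_two]
  have hv1 : v ≠ 1 := by
    intro h
    have h4 : v * (px : G) * v⁻¹ = px := by rw [h]; group
    rcases hvfix' _ px.2 h4 with h' | h'
    · exact hx1 (by rw [show f px = e 1 from congrArg e (Subtype.ext h'), map_one]; rfl)
    · refine hx1 ?_
      rw [show f px = e ⟨t, mem_centralizer_singleton_iff.mpr rfl⟩ from congrArg e (Subtype.ext h'), het]
      rfl
  let N : Subgroup G := normalizer ((P : Subgroup G) : Set G)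
  have hvN : v ∈ N := mem_normalizer_fintype fun p hp => hvP p hp
  have hPN : (P : Subgroup G) ≤ N := le_normalizer
  have hg8 : 8 * (P : Subgroup G).index = Nat.card G := by rw [← hP8, card_mul_index]
  have hno16 : ¬ 16 ∣ Nat.card G := by
    intro h
    rw [← hg8] at h
    exact hodd (Nat.dvd_of_mul_dvd_mul_left (by norm_num : 0 < 8) h)
  -- the orbit of `t`
  let K : Finset G := Finset.univ.filter fun x => ∃ n ∈ N, n * t * n⁻¹ = x
  have hK : ∀ x, x ∈ K ↔ ∃ n ∈ N, n * t * n⁻¹ = x := fun x => by simp [K]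
  let Ps : Finset G := Finset.univ.filter fun x => x ∈ (P : Subgroup G) ∧ x ≠ 1
  have hPs : Ps.card = 7 := by
    have h1 : Finset.univ.filter (fun x => x ∈ (P : Subgroup G)) = insert (1 : G) Ps := by
      ext x
      by_cases hx : x = 1
      · simp [Ps, hx, one_mem]
      · simp [Ps, hx]
    have h2 := congrArg Finset.card h1
    rw [Finset.card_insert_of_notMem (by simp [Ps]), ← Fintype.card_subtype,
      ← Nat.card_eq_fintype_card] at h2
    rw [hP8] at h2
    omega
  have hKP : K ⊆ Ps := by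
    intro x hx
    obtain ⟨n, hn, rfl⟩ := (hK x).mp hx
    simp only [Ps, Finset.mem_filter, Finset.mem_univ, true_and]
    exact ⟨(mem_normalizer_iff.mp hn t).mp htP, fun h => ht1 (conj_eq_one_iff.mp h)⟩
  have htK : t ∈ K := (hK t).mpr ⟨1, one_mem _, by group⟩
  let NC : Subgroup N := centralizer ({(⟨t, hPN htP⟩ : N)} : Set N)
  have horb : K.card * Nat.card NC = Nat.card N := by
    rw [← Char.card_conjugates_mul_card_centralizer (G := N) ⟨t, hPN htP⟩]
    congr 1
    rw [← Nat.card_eq_finsetCard]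
    refine Nat.card_congr (Equiv.ofBijective
      (fun x => (⟨⟨x.1, hPN (Finset.mem_filter.mp (hKP x.2)).2.1⟩, ?_⟩ :
        {y : N | IsConj (⟨t, hPN htP⟩ : N) y})) ⟨?_, ?_⟩)
    · obtain ⟨n, hn, hn'⟩ := (hK _).mp x.2
      exact isConj_iff.mpr ⟨⟨n, hn⟩, Subtype.ext hn'⟩
    · intro a b h
      exact Subtype.ext (congrArg (fun z => ((z.1 : N) : G)) h :)
    · rintro ⟨y, hy⟩
      obtain ⟨n, hn⟩ := isConj_iff.mp hy
      exact ⟨⟨y, (hK _).mpr ⟨n, n.2, congrArg Subtype.val hn⟩⟩, rfl⟩
  have hP8NC : 8 ∣ Nat.card NC := by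
    rw [← hP8, ← Nat.card_congr (subgroupOfEquivOfLe hPN).toEquiv]
    refine card_dvd_of_le fun x hx => mem_centralizer_singleton_iff.mpr (Subtype.ext ?_)
    exact hPcomm _ (mem_subgroupOf.mp hx) _ htP
  have hKodd : ¬ 2 ∣ K.card := fun h => hno16 <|
    (Nat.mul_dvd_mul h hP8NC).trans (horb ▸ card_subgroup_dvd_card N)
  have hK7 : K = Ps := by
    refine Finset.eq_of_subset_of_card_le hKP ?_
    rw [hPs]
    by_cases hall : ∀ n ∈ N, n * t = t * n
    · exfalso
      have hcom : commutator G = ⊤ := by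
        rcases (inferInstance : (commutator G).Normal).eq_bot_or_eq_top with h | h
        · refine absurd ⟨⟨fun a b => ?_⟩⟩ hnc
          have : ⁅a, b⁆ ∈ (⊥ : Subgroup G) := h ▸ commutator_mem_commutator (mem_top a) (mem_top b)
          exact commutatorElement_eq_one_iff_mul_comm.mp (mem_bot.mp this)
        · exact h
      have : IsMulCommutative (P : Subgroup G) :=
        ⟨⟨fun a b => Subtype.ext (hPcomm _ a.2 _ b.2)⟩⟩
      have h1 := Transfer.commutator_inf_eq_normalizer_commutator P
      rw [hcom, top_inf_eq] at h1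
      have h2 : t ∈ ⁅N, N⁆ := (h1 ▸ htP : t ∈ ⁅N, N⁆ ⊓ (P : Subgroup G)).1
      let C : Subgroup G := centralizer ({t} : Set G)
      have hNC : N ≤ C := fun n hn => mem_centralizer_singleton_iff.mpr (hall n hn)
      have h3 : t ∈ (commutator C).map C.subtype := by
        rw [map_subtype_commutator]
        exact commutator_mono hNC hNC h2
      obtain ⟨z, hz, hzt⟩ := mem_map.mp h3
      let π : C →* Multiplicative (ZMod 2) := (MonoidHom.fst _ _).comp e.toMonoidHom
      have h4 := Abelianization.commutator_subset_ker π hz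
      rw [MonoidHom.mem_ker] at h4
      rw [show z = ⟨t, mem_centralizer_singleton_iff.mpr rfl⟩ from Subtype.ext hzt] at h4
      change (e _).1 = 1 at h4
      rw [het] at h4
      exact m1_fst h4
    · push Not at hall
      obtain ⟨n, hn, hnt⟩ := hall
      let k := n * t * n⁻¹
      have hkK : k ∈ K := (hK k).mpr ⟨n, hn, rfl⟩
      have hkt : k ≠ t := fun h => hnt (mul_inv_eq_iff_eq_mul.mp h)
      have hstab : ∀ x ∈ K, v * x * v⁻¹ ∈ K := fun x hx => by
        obtain ⟨m, hm, rfl⟩ := (hK x).mp hx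
        exact (hK _).mpr ⟨v * m, mul_mem hvN hm, by group⟩
      have hmoved : ∀ x ∈ Ps, x ≠ t → v * x * v⁻¹ ≠ x ∧ v * (v * x * v⁻¹) * v⁻¹ ≠ x ∧
          v * (v * x * v⁻¹) * v⁻¹ ≠ v * x * v⁻¹ := by
        intro x hx hxt
        have hxP := (Finset.mem_filter.mp hx).2
        have hf1 : v * x * v⁻¹ ≠ x := fun h => (hvfix' x hxP.1 h).elim hxP.2 hxt
        refine ⟨hf1, fun h => hf1 ?_, fun h => hf1 ((MulAut.conj v).injective h)⟩
        calc v * x * v⁻¹ = v * (v * (v * x * v⁻¹) * v⁻¹) * v⁻¹ := by rw [h]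
          _ = (v * v * v) * x * (v * v * v)⁻¹ := by group
          _ = x := by rw [hv33]; group
      have hne_t : ∀ x, x ≠ t → v * x * v⁻¹ ≠ t := by
        intro x hxt h
        apply hxt
        calc x = v⁻¹ * (v * x * v⁻¹) * v := by group
          _ = v⁻¹ * (t * v) := by rw [h]; group
          _ = v⁻¹ * (v * t) := by rw [hvt]
          _ = t := by group
      obtain ⟨a1, a2, a3⟩ := hmoved k (hKP hkK) hkt
      let S4 : Finset G := {t, k, v * k * v⁻¹, v * (v * k * v⁻¹) * v⁻¹}
      have h4sub : S4 ⊆ K := by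
        intro x hx
        simp only [S4, Finset.mem_insert, Finset.mem_singleton] at hx
        rcases hx with rfl | rfl | rfl | rfl
        exacts [htK, hkK, hstab _ hkK, hstab _ (hstab _ hkK)]
      have h4 : 4 ≤ K.card := by
        refine le_trans (le_of_eq ?_) (Finset.card_le_card h4sub)
        symm
        rw [Finset.card_eq_four]
        exact ⟨_, _, _, _, hkt.symm, (hne_t k hkt).symm, (hne_t _ (hne_t k hkt)).symm, a1.symm, a2.symm,
          a3.symm, rfl⟩
      by_contra hlt
      have hle := Finset.card_le_card hKP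
      obtain ⟨l, hl, hlK⟩ : ∃ l, l ∈ Ps ∧ l ∉ K := by
        by_contra h
        push Not at h
        exact hlt (by rw [← hPs]; exact Finset.card_le_card h)
      have hlt' : l ≠ t := fun h => hlK (h ▸ htK)
      obtain ⟨b1, b2, b3⟩ := hmoved l hl hlt'
      have hback : ∀ x, v * x * v⁻¹ ∈ K → x ∈ K := fun x hx => by
        have := hstab _ (hstab _ hx)
        rwa [show v * (v * (v * x * v⁻¹) * v⁻¹) * v⁻¹ = (v * v * v) * x * (v * v * v)⁻¹ by group, hv33, one_mul,
          inv_one, mul_one] at this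
      have hlP := (Finset.mem_filter.mp hl).2
      have hmem : ∀ x, x ∈ Ps → v * x * v⁻¹ ∈ Ps := fun x hx => by
        simp only [Ps, Finset.mem_filter, Finset.mem_univ, true_and] at hx ⊢
        exact ⟨hvP x hx.1, fun h => hx.2 (conj_eq_one_iff.mp h)⟩
      have h3sub : ({l, v * l * v⁻¹, v * (v * l * v⁻¹) * v⁻¹} : Finset G) ⊆ Ps \ K := by
        intro x hx
        simp only [Finset.mem_insert, Finset.mem_singleton] at hx
        rw [Finset.mem_sdiff]
        rcases hx with rfl | rfl | rfl
        exacts [⟨hl, hlK⟩, ⟨hmem _ hl, fun h => hlK (hback _ h)⟩,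
          ⟨hmem _ (hmem _ hl), fun h => hlK (hback _ (hback _ h))⟩]
      have h3 : 3 ≤ (Ps \ K).card := by
        refine le_trans (le_of_eq ?_) (Finset.card_le_card h3sub)
        symm
        rw [Finset.card_eq_three]
        exact ⟨_, _, _, b1.symm, b2.symm, b3.symm, rfl⟩
      rw [Finset.card_sdiff_of_subset hKP, hPs] at h3
      omega
  -- involutions
  have hinv : ∀ x : G, x * x = 1 → x ≠ 1 → IsConj t x := by
    intro x hx hx1
    have hxp : IsPGroup 2 (zpowers x) := by
      refine IsPGroup.of_card (n := 1) ?_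
      rw [Nat.card_zpowers, pow_one]
      exact orderOf_eq_prime (by rw [pow_two, hx]) hx1
    obtain ⟨Q, hQ⟩ := hxp.exists_le_sylow
    obtain ⟨g, hg⟩ := MulAction.exists_smul_eq G Q P
    have hxP : g * x * g⁻¹ ∈ (P : Subgroup G) := by
      rw [← hg, Sylow.coe_subgroup_smul]
      exact mem_map.mpr ⟨x, hQ (mem_zpowers x), rfl⟩
    have hmem : g * x * g⁻¹ ∈ K := by
      rw [hK7]
      simp only [Ps, Finset.mem_filter, Finset.mem_univ, true_and]
      exact ⟨hxP, fun h => hx1 (conj_eq_one_iff.mp h)⟩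
    obtain ⟨n, -, hn⟩ := (hK _).mp hmem
    refine isConj_iff.mpr ⟨g⁻¹ * n, ?_⟩
    calc g⁻¹ * n * t * (g⁻¹ * n)⁻¹ = g⁻¹ * (n * t * n⁻¹) * g := by group
      _ = x := by rw [hn]; group
  have hKc : K.card = 7 := by rw [hK7, hPs]
  have h7N : 7 ∣ Nat.card N := ⟨_, by rw [← horb, hKc]⟩
  -- order of the stabiliser
  have hNC24 : Nat.card NC = 24 := by
    have hb := four_bound _ _ (hf2 px) (hf2 py) (hfc px py) hx1 hy1 hxy.symm
    have hsub : Nat.card NC ≤ 24 := by
      refine le_trans ?_ (le_of_eq_of_le Nat.card_eq_fintype_card hb)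
      have hmemC : ∀ z : NC, ((z : N) : G) ∈ centralizer ({t} : Set G) := fun z =>
        mem_centralizer_singleton_iff.mpr (congrArg Subtype.val (mem_centralizer_singleton_iff.mp z.2))
      refine Nat.card_le_card_of_injective (fun z => ⟨e ⟨_, hmemC z⟩, ?_⟩) fun a b h =>
        Subtype.ext (Subtype.ext (congrArg Subtype.val (e.injective (Subtype.mk.inj h)) :))
      have him : ∀ p : (P : Subgroup G), e ⟨_, hmemC z⟩ * f p * (e ⟨_, hmemC z⟩)⁻¹ =
          f ⟨_, (mem_normalizer_iff.mp (z : N).2 (p : G)).mp p.2⟩ := fun p => by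
        rw [← map_inv, ← map_mul, ← map_mul]; rfl
      rw [him, him]
      exact ⟨hfc _ _, hfc _ _, hfc _ _, hfc _ _⟩
    have h3 : 3 ∣ Nat.card NC := by
      have hv' : (⟨⟨v, hvN⟩, mem_centralizer_singleton_iff.mpr (Subtype.ext hvt)⟩ : NC) ^ 3 = 1 :=
        Subtype.ext (Subtype.ext hv3')
      rw [← orderOf_eq_prime hv' fun h => hv1 (congrArg (fun z : NC => ((z : N) : G)) h)]
      exact orderOf_dvd_natCard _
    have h24 : 24 ∣ Nat.card NC := Nat.Coprime.mul_dvd_of_dvd_of_dvd (by norm_num : Nat.Coprime 3 8) h3 hP8NC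
    exact le_antisymm hsub (Nat.le_of_dvd Nat.card_pos h24)
  have hN : Nat.card N = 168 := by rw [← horb, hKc, hNC24]
  -- the element of order seven
  obtain ⟨a, ha⟩ := exists_prime_orderOf_dvd_card' 7 h7N
  have haP : ∀ s ∈ (P : Subgroup G), (a : G) * s * (a : G)⁻¹ ∈ (P : Subgroup G) := fun s hs =>
    (mem_normalizer_iff.mp a.2 s).mp hs
  have haP' : ∀ s ∈ (P : Subgroup G), (a : G)⁻¹ * s * (a : G) ∈ (P : Subgroup G) := fun s hs =>
    (mem_normalizer_iff.mp a.2 _).mpr (by group; exact hs)
  have haG : orderOf (a : G) = 7 := by rw [orderOf_submonoid]; exact ha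
  have ha7 : (a : G) ^ 7 = 1 := by rw [← haG, pow_orderOf_eq_one]
  have ha1 : (a : G) ≠ 1 := fun h => by rw [h, orderOf_one] at haG; omega
  have hno : ∀ s ∈ (P : Subgroup G), s ≠ 1 → ∀ c : G, c ^ 7 = 1 → c * s = s * c → c = 1 :=
    fun s hs hs1 c hc hcs => seven_no_commute e hinv (hP2 s hs) hs1 hc hcs
  have hconj_as : ∀ s ∈ (P : Subgroup G), IsConj (a : G) ((a : G) * s) := by
    let h : ↥(P : Subgroup G) → ↥(P : Subgroup G) := fun x =>
      ⟨(a : G)⁻¹ * x * a * (x : G), mul_mem (haP' _ x.2) x.2⟩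
    have hinj : Function.Injective h := by
      intro x y hxy
      have hxy' : (a : G)⁻¹ * x * a * x = (a : G)⁻¹ * y * a * y := congrArg Subtype.val hxy
      have hi : ∀ z : (P : Subgroup G), ((z : G))⁻¹ = z := fun z => inv_eq_of_mul_eq_one_right (hP2 _ z.2)
      have hz : (a : G) * ((y : G) * x) = (y : G) * x * a := by
        have h2 : (x : G) * a * x = y * a * y := mul_left_cancel (by simpa only [mul_assoc] using hxy')
        calc (a : G) * ((y : G) * x) = (y : G)⁻¹ * ((y : G) * a * y) * x := by group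
          _ = (y : G)⁻¹ * ((x : G) * a * x) * x := by rw [h2]
          _ = (y : G) * x * a * ((x : G) * x) := by rw [hi]; group
          _ = _ := by rw [hP2 _ x.2, mul_one]
      by_contra hne
      refine ha1 (hno _ (mul_mem y.2 x.2) (fun h1 => hne (Subtype.ext ?_)) _ ha7 hz)
      calc (x : G) = (y : G)⁻¹ * ((y : G) * x) := by group
        _ = y := by rw [h1, mul_one, hi]
    intro s hs
    obtain ⟨x, hx⟩ := Finite.surjective_of_injective hinj ⟨s, hs⟩
    have hx' : (a : G)⁻¹ * x * a * x = s := congrArg Subtype.val hx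
    refine isConj_iff.mpr ⟨x, ?_⟩
    rw [← hx', inv_eq_of_mul_eq_one_right (hP2 _ x.2)]; group
  have hA2 : ∃ x ∈ N, x * (a : G) * x⁻¹ = (a : G) ^ 2 := by
    let A : Sylow 7 N := Sylow.ofCard (zpowers a) (by
      rw [Nat.card_zpowers, ha, hN, Nat.factorization_def _ (by norm_num : Nat.Prime 7),
        show (168 : ℕ) = 7 * 24 by norm_num, padicValNat.mul (by norm_num) (by norm_num),
        padicValNat.self (by norm_num), padicValNat.eq_zero_of_not_dvd (by norm_num : ¬ 7 ∣ 24)]; norm_num)
    have hA : (A : Subgroup N) = zpowers a := rfl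
    have hcA := Sylow.card_eq_index_normalizer A
    have hmod := card_sylow_modEq_one 7 N
    have hidx : Nat.card (normalizer ((A : Subgroup N) : Set N)) * Nat.card (Sylow 7 N) = 168 := by
      rw [hcA]; exact (card_mul_index _).trans hN
    have hdvd : Nat.card (Sylow 7 N) ∣ 24 := by
      refine (Sylow.card_dvd_index A).trans (dvd_of_eq ?_)
      have := card_mul_index (A : Subgroup N)
      rw [hN, hA, Nat.card_zpowers, ha] at this
      rw [hA]; omega
    have h18 : Nat.card (Sylow 7 N) = 1 ∨ Nat.card (Sylow 7 N) = 8 := by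
      have hpos : 0 < Nat.card (Sylow 7 N) := Nat.card_pos
      have hle := Nat.le_of_dvd (by norm_num) hdvd
      unfold Nat.ModEq at hmod
      generalize Nat.card (Sylow 7 N) = n at hdvd hmod hpos hle
      interval_cases n <;> omega
    rcases h18 with h | h
    · exfalso
      have htop : normalizer ((A : Subgroup N) : Set N) = ⊤ := by
        refine card_eq_iff_eq_top _ |>.mp ?_
        rw [h, mul_one] at hidx
        rw [hidx, hN]
      have hnorm : (zpowers a).Normal := hA ▸ normalizer_eq_top_iff.mp htop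
      let sN : N := ⟨t, hPN htP⟩
      have hmem : a * sN * a⁻¹ * sN⁻¹ ∈ zpowers a := by
        have := mul_mem (mem_zpowers a) (hnorm.conj_mem a⁻¹ (inv_mem (mem_zpowers a)) sN)
        simpa only [mul_assoc] using this
      obtain ⟨i, hi⟩ := mem_zpowers_iff.mp hmem
      have hq : (a : G) * t * (a : G)⁻¹ * t⁻¹ ∈ (P : Subgroup G) :=
        mul_mem (haP t htP) (inv_mem htP)
      have hi' : (a : G) ^ i = (a : G) * t * (a : G)⁻¹ * t⁻¹ := by
        have := congrArg Subtype.val hi
        simpa [sN] using this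
      have hq2 := hP2 _ hq
      have hqone : (a : G) ^ i = 1 := by
        have h7 : ((a : G) ^ i) ^ (7 : ℤ) = 1 := by
          rw [← zpow_mul, mul_comm, zpow_mul, zpow_ofNat, ha7, one_zpow]
        have h2 : ((a : G) ^ i) ^ (2 : ℤ) = 1 := by rw [zpow_two, hi', hq2]
        calc (a : G) ^ i = ((a : G) ^ i) ^ (7 : ℤ) * (((a : G) ^ i) ^ (2 : ℤ)) ^ (-3 : ℤ) := by group
          _ = 1 := by rw [h7, h2]; simp
      rw [hqone] at hi'
      exact ha1 (hno t htP ht1 _ ha7 (mul_inv_eq_iff_eq_mul.mp (mul_inv_eq_one.mp hi'.symm)))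
    · rw [h] at hidx
      have h21 : 3 ∣ Nat.card (normalizer ((A : Subgroup N) : Set N)) := ⟨7, by omega⟩
      obtain ⟨w, hw⟩ := exists_prime_orderOf_dvd_card' 3 h21
      have hwa : (w : N) * a * (w : N)⁻¹ ∈ zpowers a :=
        (mem_normalizer_iff.mp w.2 a).mp (mem_zpowers a)
      obtain ⟨k, hk, hkk⟩ : ∃ k, k < 7 ∧ ((w : N) : G) * a * ((w : N) : G)⁻¹ = (a : G) ^ k := by
        obtain ⟨k, hk, hkk⟩ := (isOfFinOrder_of_finite a).mem_zpowers_iff_mem_range_orderOf.mp hwa |>
          Finset.mem_image.mp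
        refine ⟨k, by rw [ha] at hk; exact Finset.mem_range.mp hk, ?_⟩
        have := congrArg Subtype.val hkk
        simpa using this.symm
      set W : G := ((w : N) : G) with hW
      have hW3 : orderOf W = 3 := by rw [hW, orderOf_submonoid, orderOf_submonoid]; exact hw
      have hW3' : W ^ 3 = 1 := by rw [← hW3, pow_orderOf_eq_one]
      have hW33 : W * W * W = 1 := by rw [← hW3', pow_succ, pow_two]
      have hiter : (a : G) ^ (k * k * k) = a := by
        have s : ∀ m : ℕ, W * (a : G) ^ m * W⁻¹ = (a : G) ^ (k * m) := fun m => by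
          rw [← conj_pow, hkk, ← pow_mul]
        calc (a : G) ^ (k * k * k) = W * (W * (W * a * W⁻¹) * W⁻¹) * W⁻¹ := by
              rw [hkk, s, s, mul_assoc k k k]
          _ = (W * W * W) * a * (W * W * W)⁻¹ := by group
          _ = a := by rw [hW33]; group
      rw [pow_eq_pow_mod (k * k * k) ha7] at hiter
      have hk3 : k * k * k % 7 = 1 := by
        have := pow_inj_mod.mp (hiter.trans (pow_one (a : G)).symm)
        rw [haG] at this
        omega
      have hk124 : k = 1 ∨ k = 2 ∨ k = 4 := by interval_cases k <;> omega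
      rcases hk124 with rfl | rfl | rfl
      · exfalso
        rw [pow_one] at hkk
        have hWa : W * a = (a : G) * W := mul_inv_eq_iff_eq_mul.mp hkk
        have hWP : ∀ s ∈ (P : Subgroup G), W * s * W⁻¹ ∈ (P : Subgroup G) := fun s hs =>
          (mem_normalizer_iff.mp (w : N).2 s).mp hs
        let σ : Equiv.Perm Ps :=
          { toFun := fun s => ⟨W * s * W⁻¹, Finset.mem_filter.mpr ⟨Finset.mem_univ _,
              hWP _ (Finset.mem_filter.mp s.2).2.1,
              fun h => (Finset.mem_filter.mp s.2).2.2 (conj_eq_one_iff.mp h)⟩⟩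
            invFun := fun s => ⟨W⁻¹ * s * W, Finset.mem_filter.mpr ⟨Finset.mem_univ _,
              (mem_normalizer_iff.mp (w : N).2 _).mpr (by
                rw [show W * (W⁻¹ * s * W) * W⁻¹ = s by group]; exact (Finset.mem_filter.mp s.2).2.1),
              fun h => (Finset.mem_filter.mp s.2).2.2 (by
                rw [show (s : G) = W * (W⁻¹ * s * W) * W⁻¹ by group, h]; group)⟩⟩
            left_inv := fun s => Subtype.ext (by group)
            right_inv := fun s => Subtype.ext (by group) }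
        have hσ : σ ^ 3 ^ 1 = 1 := by
          ext s
          show W * (W * (W * s * W⁻¹) * W⁻¹) * W⁻¹ = s
          rw [show W * (W * (W * (s : G) * W⁻¹) * W⁻¹) * W⁻¹ = (W * W * W) * s * (W * W * W)⁻¹ by group, hW33]
          group
        have : Fact (Nat.Prime 3) := ⟨Nat.prime_three⟩
        obtain ⟨s, hs⟩ := Equiv.Perm.exists_fixed_point_of_prime
          (by rw [Fintype.card_coe, hPs]; norm_num) hσ
        have hWs : W * (s : G) = s * W := mul_inv_eq_iff_eq_mul.mp (congrArg Subtype.val hs)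
        have hs' := (Finset.mem_filter.mp s.2).2
        have hpow : ∀ i : ℕ, (a : G) ^ i * s * ((a : G) ^ i)⁻¹ ∈ (P : Subgroup G) := by
          intro i
          induction i with
          | zero => simpa using hs'.1
          | succ i ih =>
            have := haP _ ih
            rw [pow_succ']; convert this using 1; group
        let g : Fin 7 → Ps := fun i => ⟨(a : G) ^ (i : ℕ) * s * ((a : G) ^ (i : ℕ))⁻¹,
          Finset.mem_filter.mpr ⟨Finset.mem_univ _, hpow i, fun h => hs'.2 (conj_eq_one_iff.mp h)⟩⟩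
        have hsur : Function.Surjective g := by
          refine ((Fintype.bijective_iff_injective_and_card g).mpr ⟨?_, ?_⟩).2
          · intro i j hij
            wlog hle : (i : ℕ) ≤ j generalizing i j
            · exact (this hij.symm (le_of_not_ge hle)).symm
            obtain ⟨d, hd⟩ := Nat.exists_eq_add_of_le hle
            have hij' : (a : G) ^ (i : ℕ) * s * ((a : G) ^ (i : ℕ))⁻¹ =
                (a : G) ^ (i : ℕ) * ((a : G) ^ d * s * ((a : G) ^ d)⁻¹) * ((a : G) ^ (i : ℕ))⁻¹ := by
              have := congrArg Subtype.val hij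
              simp only [g, hd, pow_add] at this
              rw [this]; group
            have hd1 : (a : G) ^ d = 1 := hno s hs'.1 hs'.2 _
              (by rw [← pow_mul, mul_comm, pow_mul, ha7, one_pow])
              (mul_inv_eq_iff_eq_mul.mp (mul_left_cancel (mul_right_cancel hij')).symm)
            have : d % 7 = 0 := by
              have := orderOf_dvd_of_pow_eq_one hd1
              rw [haG] at this; omega
            have := i.2; have := j.2
            exact Fin.ext (by omega)
          · rw [Fintype.card_fin, Fintype.card_coe, hPs]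
        have hWall : ∀ x ∈ (P : Subgroup G), W * x = x * W := by
          intro x hx
          by_cases hx1 : x = 1
          · simp [hx1]
          obtain ⟨i, hi⟩ := hsur ⟨x, Finset.mem_filter.mpr ⟨Finset.mem_univ _, hx, hx1⟩⟩
          have hi' : (a : G) ^ (i : ℕ) * s * ((a : G) ^ (i : ℕ))⁻¹ = x := congrArg Subtype.val hi
          rw [← hi']
          have hc : Commute W (a : G) := hWa
          exact (((hc.pow_right _).mul_right hWs).mul_right (hc.pow_right _).inv_right).eq
        have hWC : W ∈ centralizer ({t} : Set G) :=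
          mem_centralizer_singleton_iff.mpr (hWall t htP)
        have hmemP : W ∈ (P : Subgroup G) := hcentP ⟨W, hWC⟩
          (by rw [← map_mul, ← map_mul]; exact congrArg e (Subtype.ext (hWall _ px.2)))
          (by rw [← map_mul, ← map_mul]; exact congrArg e (Subtype.ext (hWall _ py.2)))
        have hW1 : W = 1 := by
          calc W = (W * W * W) * (W * W)⁻¹ * 1 := by rw [hP2 W hmemP]; simp
            _ = 1 := by rw [hW33, hP2 W hmemP]; simp
        rw [hW1, orderOf_one] at hW3
        omega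
      · exact ⟨W, (w : N).2, hkk⟩
      · refine ⟨W⁻¹, inv_mem (w : N).2, ?_⟩
        have hW4 : W * (a : G) ^ 2 * W⁻¹ = a := by
          rw [← conj_pow, hkk, ← pow_mul, pow_eq_pow_mod (4 * 2) ha7, pow_one]
        nth_rewrite 1 [← hW4]
        group
  have hconj_sq : ∀ s ∈ (P : Subgroup G), IsConj (a : G) ((a : G) ^ 2 * s) := by
    obtain ⟨x, hx, hxa⟩ := hA2
    intro s hs
    have hs' : x⁻¹ * s * x ∈ (P : Subgroup G) :=
      (mem_normalizer_iff.mp hx _).mpr (by rw [show x * (x⁻¹ * s * x) * x⁻¹ = s by group]; exact hs)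
    refine (hconj_as _ hs').trans (isConj_iff.mpr ⟨x, ?_⟩)
    rw [← hxa]; group
  -- modulus
  have h840 : 840 ∣ Nat.card G := by
    have h1 : 120 ∣ Nat.card G := hC ▸ card_subgroup_dvd_card _
    have h2 : 7 ∣ Nat.card G := h7N.trans (card_subgroup_dvd_card N)
    exact Nat.Coprime.mul_dvd_of_dvd_of_dvd (by norm_num : Nat.Coprime 120 7) h1 h2
  refine ⟨hinv, by omega, hnc, (a : G), P, hP8, hP2, ha7, ha1,
    by simpa using hconj_sq 1 (one_mem _), hconj_as, hconj_sq, haP⟩

end Cfsg.Agent.JankoOneOrder
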