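/-
The four `t`-section classes and the integer combinations of their columns.
-/
import Cfsg.Agent.Lib.JankoOneOrder.Local
import Cfsg.Agent.Lib.Order7920.CyclicVals
import Cfsg.Agent.Lib.Char.ClassMult

set_option autoImplicit false

namespace Cfsg.Agent.JankoOneOrder

open Cfsg Subgroup
open scoped ComplexConjugate

variable {G : Type*} [Group G] [Finite G] {t : G}

/-- What the model gives about the section of `t`. -/
structure Sec (t : G) (c : Fin 4 → G) : Prop where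
  c0 : c 0 = t
  pow2 : (c 1) ^ 6 = 1 ∧ (c 1) ^ 3 = t
  pow3 : (c 2) ^ 10 = 1 ∧ (c 2) ^ 5 = t
  p37 : (c 2) ^ 7 = c 3
  p33 : IsConj ((c 2) ^ 3) (c 3)
  p47 : IsConj ((c 3) ^ 7) (c 2)
  inv : ∀ i, IsConj (c i) (c i)⁻¹
  ne_one : ∀ i, c i ≠ 1
  apart : ∀ i j, IsConj (c i) (c j) → i = j
  cent : ∀ i, Nat.card (centralizer ({c i} : Set G)) = ![120, 6, 10, 10] i
  pairs : ∀ i, Nat.card {p : G × G // IsConj t p.1 ∧ IsConj t p.2 ∧ p.1 * p.2 = c i} = ![30, 6, 10, 10] i

theorem card_cent_of_conj {g h : G} (hgh : IsConj g h) :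
    Nat.card (centralizer ({g} : Set G)) = Nat.card (centralizer ({h} : Set G)) := by
  have h1 := Char.card_conjugates_mul_card_centralizer g
  have h2 := Char.card_conjugates_mul_card_centralizer h
  have e : ({x : G | IsConj g x} : Set G) = {x : G | IsConj h x} :=
    Set.ext fun x => ⟨fun k => hgh.symm.trans k, fun k => hgh.trans k⟩
  rw [e] at h1
  have : Nonempty {x : G | IsConj h x} := ⟨⟨h, IsConj.refl h⟩⟩
  exact Nat.eq_of_mul_eq_mul_left Nat.card_pos (h1.trans h2.symm)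

theorem card_vec_inj : ∀ i j : Fin 4, (![120, 6, 10, 10] i : ℕ) = ![120, 6, 10, 10] j →
    i = j ∨ (i = 2 ∧ j = 3) ∨ (i = 3 ∧ j = 2) := by decide

def mods : Fin 4 → Mdl := ![m1, m2, m3, m4]

theorem card_cent_mods (i : Fin 4) : Fintype.card {z : Mdl // z * mods i = mods i * z} = ![120, 6, 10, 10] i := by
  have h := card_cent
  simp only [List.map_cons, List.map_nil, List.cons.injEq, and_true] at h
  obtain ⟨a, b, c, d⟩ := h
  fin_cases i
  exacts [a, b, c, d]

theorem card_invPair_mods (i : Fin 4) : Fintype.card {x : Mdl // InvPair (mods i) x} = ![30, 6, 10, 10] i := by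
  have h := card_invPair
  simp only [List.map_cons, List.map_nil, List.cons.injEq, and_true] at h
  obtain ⟨a, b, c, d⟩ := h
  fin_cases i
  exacts [a, b, c, d]

theorem mods_pow (i : Fin 4) : ∃ k : ℕ, mods i ^ k = m1 := by
  obtain ⟨-, -, -, h4, h5, h6⟩ := ord_m
  fin_cases i
  exacts [⟨1, pow_one _⟩, ⟨3, h4⟩, ⟨5, h5⟩, ⟨5, h6⟩]

theorem m4_eq : m3 ^ 7 = m4 := rfl

theorem sec_exists (ht : orderOf t = 2) (hinv : ∀ x : G, x * x = 1 → x ≠ 1 → IsConj t x)
    (e : centralizer ({t} : Set G) ≃* Mdl) : ∃ c : Fin 4 → G, Sec t c := by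
  classical
  have htt : t * t = 1 := by rw [← pow_two, ← ht, pow_orderOf_eq_one]
  have ht1 : t ≠ 1 := fun h => by rw [h, orderOf_one] at ht; omega
  let C : Subgroup G := centralizer ({t} : Set G)
  let ι : Mdl →* G := C.subtype.comp e.symm.toMonoidHom
  have hι : Function.Injective ι := fun a b h => e.symm.injective (Subtype.ext h)
  have hιC : ∀ m, ι m ∈ C := fun m => (e.symm m).2
  have hm1 : ι m1 = t := by
    show ((e.symm m1 : C) : G) = t
    rw [← e_t ht e, e.symm_apply_apply]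
  have hconj : ∀ {a b : Mdl}, (∃ x, x * a * x⁻¹ = b) → IsConj (ι a) (ι b) := fun {a b} ⟨x, hx⟩ =>
    isConj_iff.mpr ⟨ι x, by rw [← hx, map_mul, map_mul, map_inv]⟩
  have hback : ∀ z ∈ C, ∃ m, ι m = z := fun z hz => ⟨e ⟨z, hz⟩, by
    show ((e.symm (e ⟨z, hz⟩) : C) : G) = z
    rw [e.symm_apply_apply]⟩
  -- an element inverting or centralising `ι m` centralises `t`
  have hpow : ∀ i, ∃ k : ℕ, ι (mods i) ^ k = t := fun i => by
    obtain ⟨k, hk⟩ := mods_pow i
    exact ⟨k, by rw [← map_pow, hk, hm1]⟩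
  obtain ⟨o1, o2, o3, o4, o5, o6⟩ := ord_m
  refine ⟨fun i => ι (mods i), hm1, ⟨?_, ?_⟩, ⟨?_, ?_⟩, ?_, ?_, ?_, ?_, ?_, ?_, ?_, ?_⟩
  · rw [← map_pow]; exact (congrArg ι o2).trans (map_one ι)
  · rw [← map_pow]; exact (congrArg ι o4).trans hm1
  · rw [← map_pow]; exact (congrArg ι o3).trans (map_one ι)
  · rw [← map_pow]; exact (congrArg ι o5).trans hm1
  · rw [← map_pow]; exact congrArg ι m4_eq
  · rw [← map_pow]; exact hconj conj_m4_pow.2
  · rw [← map_pow]; exact hconj conj_m4_pow.1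
  · intro i
    rw [← map_inv]
    refine hconj (conj_inv _ ?_)
    fin_cases i <;> simp [mods]
  · intro i h
    obtain ⟨k, hk⟩ := hpow i
    rw [show ι (mods i) = 1 from h, one_pow] at hk
    exact ht1 hk.symm
  · -- pairwise non-conjugate
    have hcent : ∀ i, Nat.card (centralizer ({ι (mods i)} : Set G)) = ![120, 6, 10, 10] i := by
      intro i
      rw [← card_cent_mods i, ← Nat.card_eq_fintype_card]
      obtain ⟨k, hk⟩ := hpow i
      refine (Nat.card_congr (Equiv.ofBijective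
        (fun z : {z : Mdl // z * mods i = mods i * z} => (⟨ι z, mem_centralizer_singleton_iff.mpr (by
          rw [← map_mul, ← map_mul, z.2])⟩ : centralizer ({ι (mods i)} : Set G))) ⟨?_, ?_⟩)).symm
      · intro a b h
        exact Subtype.ext (hι (Subtype.mk.inj h :))
      · rintro ⟨z, hz⟩
        have hz' : Commute z (ι (mods i)) := mem_centralizer_singleton_iff.mp hz
        obtain ⟨m, rfl⟩ := hback z (mem_centralizer_singleton_iff.mpr (hk ▸ (hz'.pow_right k).eq))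
        exact ⟨⟨m, hι (by rw [map_mul, map_mul]; exact hz'.eq)⟩, rfl⟩
    intro i j hij
    have h1 := card_cent_of_conj hij
    rw [hcent, hcent] at h1
    have h23 : ¬ IsConj (ι (mods 2)) (ι (mods 3)) := by
      show ¬ IsConj (ι m3) (ι m4)
      intro h
      obtain ⟨x, hx⟩ := isConj_iff.mp h
      have hx5 : x * t * x⁻¹ = t := by
        have := congrArg (fun z => z ^ 5) hx
        rw [conj_pow, ← map_pow, ← map_pow, o5, o6, hm1] at this
        exact this
      obtain ⟨m, rfl⟩ := hback x (mem_centralizer_singleton_iff.mpr (mul_inv_eq_iff_eq_mul.mp hx5))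
      rw [← map_inv, ← map_mul, ← map_mul] at hx
      exact not_conj m (hι hx)
    rcases card_vec_inj i j h1 with h | ⟨rfl, rfl⟩ | ⟨rfl, rfl⟩
    exacts [h, absurd hij h23, absurd hij.symm h23]
  · intro i
    rw [← card_cent_mods i, ← Nat.card_eq_fintype_card]
    obtain ⟨k, hk⟩ := hpow i
    refine (Nat.card_congr (Equiv.ofBijective
      (fun z : {z : Mdl // z * mods i = mods i * z} => (⟨ι z, mem_centralizer_singleton_iff.mpr (by
        rw [← map_mul, ← map_mul, z.2])⟩ : centralizer ({ι (mods i)} : Set G))) ⟨?_, ?_⟩)).symm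
    · intro a b h
      exact Subtype.ext (hι (Subtype.mk.inj h :))
    · rintro ⟨z, hz⟩
      have hz' : Commute z (ι (mods i)) := mem_centralizer_singleton_iff.mp hz
      obtain ⟨m, rfl⟩ := hback z (mem_centralizer_singleton_iff.mpr (hk ▸ (hz'.pow_right k).eq))
      exact ⟨⟨m, hι (by rw [map_mul, map_mul]; exact hz'.eq)⟩, rfl⟩
  · intro i
    rw [← card_invPair_mods i, ← Nat.card_eq_fintype_card]
    obtain ⟨k, hk⟩ := hpow i
    have hti : t⁻¹ = t := inv_eq_of_mul_eq_one_right htt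
    have hsq : ∀ x : G, IsConj t x → x * x = 1 ∧ x ≠ 1 := by
      intro x hx
      obtain ⟨g, rfl⟩ := isConj_iff.mp hx
      exact ⟨by rw [show g * t * g⁻¹ * (g * t * g⁻¹) = g * (t * t) * g⁻¹ by group, htt]; group,
        fun h => ht1 (conj_eq_one_iff.mp h)⟩
    have hone : ∀ m, m ≠ 1 → ι m ≠ 1 := fun m hm h => hm (hι (h.trans (map_one ι).symm))
    refine (Nat.card_congr (Equiv.ofBijective
      (fun x : {x : Mdl // InvPair (mods i) x} => (⟨(ι x, ι (x.1 * mods i)),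
        hinv _ (by rw [← map_mul, x.2.1, map_one]) (hone _ x.2.2.1),
        hinv _ (by rw [← map_mul, x.2.2.2.1, map_one]) (hone _ x.2.2.2.2),
        by rw [map_mul, ← mul_assoc, ← map_mul, x.2.1, map_one, one_mul]⟩ :
        {p : G × G // IsConj t p.1 ∧ IsConj t p.2 ∧ p.1 * p.2 = ι (mods i)})) ⟨?_, ?_⟩)).symm
    · intro a b h
      exact Subtype.ext (hι (congrArg (fun z => z.1.1) h))
    · rintro ⟨⟨x, y⟩, hx, hy, hxy⟩
      obtain ⟨hx2, hx1⟩ := hsq x hx
      obtain ⟨hy2, hy1⟩ := hsq y hy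
      have hy' : y = x * ι (mods i) := by rw [← hxy, ← mul_assoc, hx2, one_mul]
      have hxc : x * ι (mods i) * x⁻¹ = (ι (mods i))⁻¹ := by
        rw [← hxy, mul_inv_rev, inv_eq_of_mul_eq_one_right hx2, inv_eq_of_mul_eq_one_right hy2, ← mul_assoc,
          hx2, one_mul]
      have hxt : x * t * x⁻¹ = t := by
        rw [← hk, ← conj_pow, hxc, inv_pow, hk, hti]
      obtain ⟨m, rfl⟩ := hback x (mem_centralizer_singleton_iff.mpr (mul_inv_eq_iff_eq_mul.mp hxt))
      rw [← map_mul] at hy'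
      refine ⟨⟨m, hι (by rw [map_mul, hx2, map_one]), fun h => hx1 (by rw [h, map_one]), ?_, ?_⟩, ?_⟩
      · exact hι (by rw [map_mul, ← hy', hy2, map_one])
      · exact fun h => hy1 (by rw [hy', h, map_one])
      · exact Subtype.ext (Prod.ext rfl hy'.symm)

variable {c : Fin 4 → G} (hc : Sec t c)
include hc

theorem Sec.real {χ : G → ℂ} (hχ : IsIrrCharacter G χ) (i : Fin 4) : conj (χ (c i)) = χ (c i) := by
  obtain ⟨x, hx⟩ := isConj_iff.mp (hc.inv i)
  rw [← Char.IsCharacter.apply_inv (Char.IsIrrCharacter.isCharacter hχ), ← hx,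
    Char.IsIrrCharacter.isClassFunction hχ]

theorem Sec.orth [Fintype (IrrCharacter G)] (p q : Fin 4 → ℂ) :
    ∑ χ : IrrCharacter G, (∑ i, p i * (χ : G → ℂ) (c i)) * (∑ i, q i * (χ : G → ℂ) (c i)) =
      120 * (p 0 * q 0) + 6 * (p 1 * q 1) + 10 * (p 2 * q 2) + 10 * (p 3 * q 3) := by
  classical
  have h : ∀ i j, ∑ χ : IrrCharacter G, (χ : G → ℂ) (c i) * (χ : G → ℂ) (c j) =
      if i = j then ((![120, 6, 10, 10] i : ℕ) : ℂ) else 0 := by
    intro i j
    rw [Finset.sum_congr rfl (g := fun χ : IrrCharacter G => (χ : G → ℂ) (c i) * conj ((χ : G → ℂ) (c j)))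
      (fun χ _ => by rw [hc.real χ.2 j]), Char.column_orth]
    by_cases hij : i = j
    · subst hij; rw [if_pos (IsConj.refl _), if_pos rfl, hc.cent]
    · rw [if_neg fun h => hij (hc.apart _ _ h), if_neg hij]
  calc ∑ χ : IrrCharacter G, (∑ i, p i * (χ : G → ℂ) (c i)) * (∑ i, q i * (χ : G → ℂ) (c i))
      = ∑ i, ∑ j, p i * q j * ∑ χ : IrrCharacter G, (χ : G → ℂ) (c i) * (χ : G → ℂ) (c j) := by
        simp only [Finset.mul_sum, Finset.sum_mul]
        rw [Finset.sum_comm]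
        refine (Finset.sum_congr rfl fun i _ => Finset.sum_comm).trans ?_
        rw [Finset.sum_comm]
        exact Finset.sum_congr rfl fun i _ => Finset.sum_congr rfl fun j _ =>
          Finset.sum_congr rfl fun χ _ => by ring
    _ = _ := by
      simp only [h, Fin.sum_univ_four]
      simp [show (1 : Fin 4) ≠ 2 by decide, show (1 : Fin 4) ≠ 3 by decide]
      ring

theorem Sec.orth_other [Fintype (IrrCharacter G)] {g : G} (hg : ∀ i, ¬ IsConj g (c i)) (p : Fin 4 → ℂ) :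
    ∑ χ : IrrCharacter G, (∑ i, p i * (χ : G → ℂ) (c i)) * (χ : G → ℂ) g = 0 := by
  classical
  simp only [Finset.sum_mul]
  rw [Finset.sum_comm]
  refine Finset.sum_eq_zero fun i _ => ?_
  have h := Char.column_orth g (c i)
  rw [if_neg (hg i)] at h
  rw [Finset.sum_congr rfl (g := fun χ : IrrCharacter G => p i * ((χ : G → ℂ) g * conj ((χ : G → ℂ) (c i))))
    (fun χ _ => by rw [hc.real χ.2 i]; ring), ← Finset.mul_sum, h, mul_zero]

theorem Sec.moment [Fintype (IrrCharacter G)] (ht : Nat.card (centralizer ({t} : Set G)) = 120) (i : Fin 4) :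
    (Nat.card G : ℂ) * ((![30, 6, 10, 10] i : ℕ) : ℂ) * 14400 = (Nat.card G : ℂ) * (Nat.card G : ℂ) *
      ∑ χ : IrrCharacter G, (χ : G → ℂ) t * (χ : G → ℂ) t * (χ : G → ℂ) (c i) / (χ : G → ℂ) 1 := by
  classical
  have h := Char.class_mult_formula t t (c i)
  rw [hc.pairs i, Finset.sum_congr rfl (g := fun χ : IrrCharacter G =>
    (χ : G → ℂ) t * (χ : G → ℂ) t * (χ : G → ℂ) (c i) / (χ : G → ℂ) 1) (fun χ _ => by rw [hc.real χ.2 i])] at h
  have hk : (Nat.card {x : G // IsConj t x} : ℂ) * 120 = Nat.card G := by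
    have := Char.card_conjugates_mul_card_centralizer t
    rw [ht] at this
    exact_mod_cast this
  have hg : (Nat.card G : ℂ) ≠ 0 := Nat.cast_ne_zero.mpr Nat.card_pos.ne'
  rw [h]
  field_simp
  rw [← hk]
  ring

theorem Sec.values {χ : G → ℂ} (hχ : IsIrrCharacter G χ) {ζ : ℂ} (hζ : ζ ^ 5 = 1) :
    ∃ b : ℤ, χ t + (ζ + ζ ^ 4) * χ (c 2) + (ζ ^ 2 + ζ ^ 3) * χ (c 3) = 5 * b := by
  have hχc := Char.IsIrrCharacter.isCharacter hχ
  have hz10 : ζ ^ 10 = 1 := by rw [show (10 : ℕ) = 5 * 2 from rfl, pow_mul, hζ, one_pow]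
  obtain ⟨m, hm⟩ := Order7920.sum_pow_char hχc hc.pow3.1 hz10
  obtain ⟨m', hm'⟩ := Order7920.sum_pow_char hχc hc.pow3.1 (c := -ζ) (by rw [Even.neg_pow ⟨5, rfl⟩, hz10])
  have e3 : χ (c 2 ^ 3) = χ (c 3) := by
    obtain ⟨x, hx⟩ := isConj_iff.mp hc.p33
    rw [← hx, Char.IsIrrCharacter.isClassFunction hχ]
  have e9 : χ (c 2 ^ 9) = χ (c 2) := by
    rw [show c 2 ^ 9 = (c 2)⁻¹ from eq_inv_of_mul_eq_one_left (by rw [← pow_succ, hc.pow3.1]),
      Char.IsCharacter.apply_inv hχc, hc.real hχ 2]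
  simp only [Finset.sum_range_succ, Finset.sum_range_zero, pow_zero, pow_one, e3, hc.pow3.2, hc.p37, e9, mul_one,
    zero_add, Nat.cast_ofNat] at hm hm'
  refine ⟨(m : ℤ) - m', ?_⟩
  push_cast
  linear_combination (hm - hm') / 2 -
    (χ (c 3) * ζ ^ 2 + χ (c 2) * ζ ^ 4 + χ t) * hζ

theorem Sec.value_six {χ : G → ℂ} (hχ : IsIrrCharacter G χ) :
    ∃ d : ℤ, χ t - χ (c 1) = 3 * d := by
  have hχc := Char.IsIrrCharacter.isCharacter hχ
  obtain ⟨w, hw⟩ : ∃ w : ℂ, w ^ 2 + w + 1 = 0 := by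
    obtain ⟨w, hw⟩ := IsAlgClosed.exists_eq_mul_self ((-3 : ℂ))
    exact ⟨(-1 + w) / 2, by linear_combination (-1/4 : ℂ) * hw⟩
  have hw3 : w ^ 3 = 1 := by linear_combination (w - 1) * hw
  have hw6 : w ^ 6 = 1 := by linear_combination (w ^ 3 + 1) * hw3
  obtain ⟨m, hm⟩ := Order7920.sum_pow_char hχc hc.pow2.1 hw6
  obtain ⟨m', hm'⟩ := Order7920.sum_pow_char hχc hc.pow2.1 (c := -w) (by rw [Even.neg_pow ⟨3, rfl⟩, hw6])
  have e5 : χ (c 1 ^ 5) = χ (c 1) := by
    rw [show c 1 ^ 5 = (c 1)⁻¹ from eq_inv_of_mul_eq_one_left (by rw [← pow_succ, hc.pow2.1]),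
      Char.IsCharacter.apply_inv hχc, hc.real hχ 1]
  simp only [Finset.sum_range_succ, Finset.sum_range_zero, pow_zero, pow_one, hc.pow2.2, e5, mul_one,
    zero_add, Nat.cast_ofNat] at hm hm'
  refine ⟨(m : ℤ) - m', ?_⟩
  push_cast
  linear_combination (hm - hm') / 2 - (χ t + χ (c 1) * w ^ 2) * hw3 - χ (c 1) * hw

end Cfsg.Agent.JankoOneOrder
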