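/-
The system of integer rows attached to the `t`-section.
-/
import Cfsg.Agent.Lib.JankoOneOrder.Section
import Cfsg.Agent.Lib.JankoOneOrder.Rows
import Cfsg.Agent.Lib.JankoOneOrder.Avg
import Cfsg.Agent.Lib.GaloisPow.Twist
import Cfsg.Agent.Lib.Char.Integral

set_option autoImplicit false

namespace Cfsg.Agent.JankoOneOrder

open Cfsg Subgroup
open scoped ComplexConjugate

variable {G : Type*} [Group G] [Finite G] {t : G}

theorem exists_zeta : ∃ ζ s : ℂ, ζ ^ 5 = 1 ∧ s = ζ + ζ ^ 4 ∧ -1 - s = ζ ^ 2 + ζ ^ 3 ∧ s * s + s = 1 := by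
  obtain ⟨ζ, hζ⟩ : ∃ ζ : ℂ, IsPrimitiveRoot ζ 5 := ⟨_, Complex.isPrimitiveRoot_exp 5 (by norm_num)⟩
  have h5 := hζ.pow_eq_one
  have hsum := hζ.geom_sum_eq_zero (by norm_num)
  simp only [Finset.sum_range_succ, Finset.sum_range_zero, pow_zero, pow_one, zero_add] at hsum
  exact ⟨ζ, _, h5, rfl, by linear_combination -hsum,
    by linear_combination (ζ ^ 3 + 2) * h5 + hsum⟩

theorem exists_twist {g : ℕ} (hg : g ≠ 0) (h5 : 5 ∣ g) (h2 : 2 ∣ g) (h3 : 3 ∣ g) :
    ∃ k : ℕ, k.Coprime g ∧ k % 10 = 7 ∧ k % 6 = 1 := by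
  have hp : Nat.Prime 5 := by norm_num
  set n := ordProj[5] g with hn
  set m := ordCompl[5] g with hm
  have hnm : n * m = g := Nat.ordProj_mul_ordCompl_eq_self g 5
  have hco5 : Nat.Coprime 5 m := Nat.coprime_ordCompl hp hg
  have hco : n.Coprime m := hco5.pow_left _
  have h5n : 5 ∣ n := by
    have := hp.factorization_pos_of_dvd hg h5
    exact dvd_pow_self 5 this.ne'
  have h6m : 6 ∣ m := by
    have h6 : 6 ∣ n * m := hnm.symm ▸ Nat.Coprime.mul_dvd_of_dvd_of_dvd (by norm_num : Nat.Coprime 2 3) h2 h3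
    have : Nat.Coprime 6 n := (by norm_num : Nat.Coprime 6 5).pow_right _
    exact this.dvd_of_dvd_mul_left h6
  obtain ⟨k, hk1, hk2⟩ := Nat.chineseRemainder hco 2 1
  have k5 : k % 5 = 2 := hk1.of_dvd h5n
  have k6 : k % 6 = 1 := hk2.of_dvd h6m
  refine ⟨k, ?_, by omega, k6⟩
  rw [← hnm]
  refine Nat.Coprime.mul_right (Nat.Coprime.pow_right _ ?_) ?_
  · refine (hp.coprime_iff_not_dvd.mpr ?_).symm
    omega
  · show Nat.gcd k m = 1
    rw [hk2.gcd_eq, Nat.gcd_one_left]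

/-- The coefficient vectors of `u`, `w`, `β`, `h`. -/
noncomputable def vec (s : ℂ) : Fin 4 → Fin 4 → ℂ :=
  ![![1/15, 1/3, (1 - s)/5, (2 + s)/5], ![1/15, 1/3, (2 + s)/5, (1 - s)/5],
    ![2/15, -(1/3), (s + 1)/5, -s/5], ![1/15, 1/3, -(1/5), -(1/5)]]

theorem finsum_P {χ : G → ℂ} (hχ : IsIrrCharacter G χ) (P : Subgroup G) (hP : Nat.card P = 8)
    (hP2 : ∀ x ∈ P, x * x = 1) (hinv : ∀ x : G, x * x = 1 → x ≠ 1 → IsConj t x) :
    ∑ᶠ s : P, χ s = χ 1 + 7 * χ t := by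
  classical
  have := Fintype.ofFinite P
  rw [finsum_eq_sum_of_fintype, ← Finset.add_sum_erase _ _ (Finset.mem_univ 1),
    Finset.sum_congr rfl (g := fun _ => χ t) (fun x hx => by
      obtain ⟨y, hy⟩ := isConj_iff.mp (hinv _ (hP2 _ x.2) fun h1 => Finset.ne_of_mem_erase hx (Subtype.ext h1))
      rw [← hy, Char.IsIrrCharacter.isClassFunction hχ]),
    Finset.sum_const, Finset.card_erase_of_mem (Finset.mem_univ 1), Finset.card_univ,
    ← Nat.card_eq_fintype_card, hP, OneMemClass.coe_one, nsmul_eq_mul]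
  norm_num

theorem exists_sys [Fintype (IrrCharacter G)] {c : Fin 4 → G} (hc : Sec t c) (hL : LocalData G t)
    (hC : Nat.card (centralizer ({t} : Set G)) = 120) (ht : t * t = 1) :
    ∃ S : Sys (IrrCharacter G), S.g = Nat.card G ∧ ((S.o : IrrCharacter G) : G → ℂ) = 1 ∧
      (∀ χ : IrrCharacter G, (χ : G → ℂ) 1 = S.d χ ∧ (χ : G → ℂ) t = S.X χ) ∧
      ∀ g : G, (∀ i, ¬ IsConj g (c i)) →
        ∑ χ : IrrCharacter G, (S.u χ : ℂ) * (χ : G → ℂ) g = 0 ∧
        ∑ χ : IrrCharacter G, (S.w χ : ℂ) * (χ : G → ℂ) g = 0 ∧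
        ∑ χ : IrrCharacter G, (S.β χ : ℂ) * (χ : G → ℂ) g = 0 ∧
        ∑ χ : IrrCharacter G, (S.h χ : ℂ) * (χ : G → ℂ) g = 0 := by
  classical
  obtain ⟨ζ, s, hζ, hs1, hs2, hss⟩ := exists_zeta
  have hreal : ∀ χ : IrrCharacter G, ∃ d X a b b' e : ℤ, 1 ≤ d ∧ (d : ℤ) ∣ Nat.card G ∧
      (χ : G → ℂ) 1 = d ∧ (χ : G → ℂ) t = X ∧ (a : ℂ) * 5 = X + 2 * (χ : G → ℂ) (c 2) + 2 * (χ : G → ℂ) (c 3) ∧
      (b : ℂ) * 5 = X + s * (χ : G → ℂ) (c 2) + (-1 - s) * (χ : G → ℂ) (c 3) ∧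
      (b' : ℂ) * 5 = X + (-1 - s) * (χ : G → ℂ) (c 2) + s * (χ : G → ℂ) (c 3) ∧
      (e : ℂ) * 3 = X - (χ : G → ℂ) (c 1) := by
    intro χ
    obtain ⟨d, hd0, hd, hdvd⟩ := Char.IsIrrCharacter.degree_dvd_card χ.2
    obtain ⟨X, hX, -⟩ := Order7920.val_two (Char.IsIrrCharacter.isCharacter χ.2) hd (t := t) (by rw [pow_two, ht])
    obtain ⟨a, ha⟩ := hc.values χ.2 (ζ := 1) (one_pow _)
    obtain ⟨b, hb⟩ := hc.values χ.2 hζ
    obtain ⟨b', hb'⟩ := hc.values χ.2 (ζ := ζ ^ 2) (by rw [← pow_mul, mul_comm, pow_mul, hζ, one_pow])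
    obtain ⟨e, he⟩ := hc.value_six χ.2
    refine ⟨d, X, a, b, b', e, by omega, by exact_mod_cast hdvd, by rw [hd]; simp, hX, ?_, ?_, ?_, ?_⟩
    · rw [hX] at ha; linear_combination -ha
    · rw [hX, ← hs1, ← hs2] at hb; linear_combination -hb
    · have e1 : ζ ^ 2 + (ζ ^ 2) ^ 4 = -1 - s := by rw [hs2]; linear_combination ζ ^ 3 * hζ
      have e2 : (ζ ^ 2) ^ 2 + (ζ ^ 2) ^ 3 = s := by rw [hs1]; linear_combination ζ * hζ
      rw [hX, e1, e2] at hb'; linear_combination -hb'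
    · rw [hX] at he; linear_combination -he
  choose d X a b b' e hd1 hdvd hd hX ha hb hb' he using hreal
  let H : IrrCharacter G → ℤ := fun χ => b χ + b' χ - e χ
  let U : IrrCharacter G → ℤ := fun χ => a χ - b χ + H χ
  let W : IrrCharacter G → ℤ := fun χ => a χ - b' χ + H χ
  let Bt : IrrCharacter G → ℤ := fun χ => b χ - H χ
  let V : Fin 4 → IrrCharacter G → ℤ := ![U, W, Bt, H]
  have hV : ∀ j χ, (V j χ : ℂ) = ∑ i, vec s j i * (χ : G → ℂ) (c i) := by
    intro j χ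
    have h0 : (χ : G → ℂ) (c 0) = X χ := by rw [hc.c0, hX]
    fin_cases j <;> simp [V, vec, U, W, Bt, H, Fin.sum_univ_four, h0]
    · linear_combination (ha χ) / 5 + (hb' χ) / 5 - (he χ) / 3
    · linear_combination (ha χ) / 5 + (hb χ) / 5 - (he χ) / 3
    · linear_combination -(hb' χ) / 5 + (he χ) / 3
    · linear_combination (hb χ) / 5 + (hb' χ) / 5 - (he χ) / 3
  have gram : ∀ j k, ((∑ χ, V j χ * V k χ : ℤ) : ℂ) =
      120 * (vec s j 0 * vec s k 0) + 6 * (vec s j 1 * vec s k 1) + 10 * (vec s j 2 * vec s k 2)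
        + 10 * (vec s j 3 * vec s k 3) := by
    intro j k
    rw [← hc.orth (vec s j) (vec s k)]
    push_cast
    exact Finset.sum_congr rfl fun χ _ => by rw [hV, hV]
  have gramZ : ∀ j k (n : ℤ), 120 * (vec s j 0 * vec s k 0) + 6 * (vec s j 1 * vec s k 1)
      + 10 * (vec s j 2 * vec s k 2) + 10 * (vec s j 3 * vec s k 3) = (n : ℂ) → ∑ χ, V j χ * V k χ = n :=
    fun j k n h => by exact_mod_cast (gram j k).trans h
  -- orthogonality with a class outside the section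
  have other : ∀ g, (∀ i, ¬ IsConj g (c i)) → ∀ j, ∑ χ : IrrCharacter G, (V j χ : ℂ) * (χ : G → ℂ) g = 0 := by
    intro g hg j
    rw [← hc.orth_other hg (vec s j)]
    exact Finset.sum_congr rfl fun χ _ => by rw [hV]
  have hdeg : ∀ j, ∑ χ, d χ * V j χ = 0 := by
    intro j
    have h := other 1 (fun i h => hc.ne_one i (isConj_one_right.mp h)) j
    have : ((∑ χ, d χ * V j χ : ℤ) : ℂ) = ((0 : ℤ) : ℂ) := by
      push_cast
      exact (Finset.sum_congr rfl fun χ _ => by rw [hd]; ring).trans h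
    exact_mod_cast this
  -- moments
  have hg0 : (Nat.card G : ℂ) ≠ 0 := Nat.cast_ne_zero.mpr Nat.card_pos.ne'
  have hmom : ∀ j (n : ℂ), (30 * vec s j 0 + 6 * vec s j 1 + 10 * vec s j 2 + 10 * vec s j 3) * 14400 = n →
      (Nat.card G : ℂ) * ∑ χ : IrrCharacter G, (V j χ : ℂ) * (X χ : ℂ) ^ 2 / (d χ : ℂ) = n := by
    intro j n hn
    have hM : ∀ i, (Nat.card G : ℂ) * ∑ χ : IrrCharacter G,
        (χ : G → ℂ) t * (χ : G → ℂ) t * (χ : G → ℂ) (c i) / (χ : G → ℂ) 1 =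
        ((![30, 6, 10, 10] i : ℕ) : ℂ) * 14400 := fun i => by
      have h := hc.moment hC i
      rw [mul_assoc, mul_assoc] at h
      exact (mul_left_cancel₀ hg0 h).symm
    calc (Nat.card G : ℂ) * ∑ χ : IrrCharacter G, (V j χ : ℂ) * (X χ : ℂ) ^ 2 / (d χ : ℂ)
        = ∑ i, vec s j i * ((Nat.card G : ℂ) * ∑ χ : IrrCharacter G,
            (χ : G → ℂ) t * (χ : G → ℂ) t * (χ : G → ℂ) (c i) / (χ : G → ℂ) 1) := by
          simp only [Finset.mul_sum, hV, Finset.sum_mul, Finset.sum_div]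
          rw [Finset.sum_comm]
          exact Finset.sum_congr rfl fun i _ => Finset.sum_congr rfl fun χ _ => by rw [hX, hd]; ring
      _ = n := by
          simp only [hM, Fin.sum_univ_four, ← hn]
          simp
          ring
  have momQ : ∀ j (n : ℤ), (30 * vec s j 0 + 6 * vec s j 1 + 10 * vec s j 2 + 10 * vec s j 3) * 14400 = (n : ℂ) →
      (Nat.card G : ℚ) * ∑ χ : IrrCharacter G, (V j χ : ℚ) * (X χ : ℚ) ^ 2 / (d χ : ℚ) = (n : ℚ) := by
    intro j n h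
    apply Rat.cast_injective (α := ℂ)
    push_cast
    exact hmom j _ h
  -- trivial character
  let o : IrrCharacter G := ⟨1, Char.isIrrCharacter_one⟩
  have ho : ∀ g, (o : G → ℂ) g = 1 := fun g => rfl
  have hVo : ∀ j (n : ℤ), vec s j 0 + vec s j 1 + vec s j 2 + vec s j 3 = (n : ℂ) → V j o = n := fun j n h => by
    have h' := hV j o
    simp only [ho, mul_one, Fin.sum_univ_four] at h'
    exact_mod_cast h'.trans h
  have hdo : d o = 1 := by
    have := hd o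
    rw [ho] at this
    exact_mod_cast this.symm
  -- twist
  have hmod := hL.modulus
  obtain ⟨k, hk, hk10, hk6⟩ := exists_twist (g := Nat.card G) Nat.card_pos.ne'
    (by omega) (by omega) (by omega)
  have hpow : ∀ {x : G} {n : ℕ}, x ^ n = 1 → x ^ k = x ^ (k % n) := fun {x n} h => pow_eq_pow_mod k h
  have tk : t ^ k = t := by
    rw [hpow (n := 2) (by rw [pow_two, ht]), show k % 2 = 1 by omega, pow_one]
  have c1k : c 1 ^ k = c 1 := by rw [hpow hc.pow2.1, hk6, pow_one]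
  have c2k : c 2 ^ k = c 3 := by rw [hpow hc.pow3.1, hk10, hc.p37]
  have c3k : IsConj (c 3 ^ k) (c 2) := by
    rw [hpow (n := 10) (by rw [← hc.p37, ← pow_mul, mul_comm, pow_mul, hc.pow3.1, one_pow]), hk10]
    exact hc.p47
  let σ : Equiv.Perm (IrrCharacter G) := GaloisPow.powPerm hk
  have σ1 : ∀ χ, ((σ χ : IrrCharacter G) : G → ℂ) 1 = (χ : G → ℂ) 1 := fun χ => by
    show (χ : G → ℂ) (1 ^ k) = _; rw [one_pow]
  have σc : ∀ χ i, ((σ χ : IrrCharacter G) : G → ℂ) (c i) = (χ : G → ℂ) (c (![0, 1, 3, 2] i)) := fun χ i => by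
    show (χ : G → ℂ) (c i ^ k) = _
    fin_cases i <;> simp
    · rw [hc.c0, tk]
    · rw [c1k]
    · rw [c2k]
    · obtain ⟨x, hx⟩ := isConj_iff.mp c3k
      rw [← hx, Char.IsIrrCharacter.isClassFunction χ.2]
  have σV : ∀ (j : Fin 4) (f : IrrCharacter G → ℂ) (χ : IrrCharacter G),
      vec s j 0 * (χ : G → ℂ) (c 0) + vec s j 1 * (χ : G → ℂ) (c 1) + vec s j 2 * (χ : G → ℂ) (c 3)
        + vec s j 3 * (χ : G → ℂ) (c 2) = f χ → (V j (σ χ) : ℂ) = f χ := fun j f χ h => by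
    rw [hV, Fin.sum_univ_four, σc, σc, σc, σc]
    simpa using h
  -- restriction to an elementary abelian subgroup of order eight
  obtain ⟨a7, P, hP8, hP2, -⟩ := hL.seven
  have hres : ∀ χ, ∃ m : ℕ, d χ + 7 * X χ = 8 * (m : ℤ) := by
    intro χ
    obtain ⟨m, hm, -⟩ := avg (Char.IsIrrCharacter.isCharacter χ.2) P
    rw [finsum_P χ.2 P hP8 hP2 hL.invol, hP8, hd, hX] at hm
    exact ⟨m, by exact_mod_cast (show ((d χ + 7 * X χ : ℤ) : ℂ) = ((8 * (m : ℤ) : ℤ) : ℂ) by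
      push_cast at hm ⊢; linear_combination hm)⟩
  have hss' : s * s = 1 - s := by linear_combination hss
  refine ⟨{
    g := Nat.card G, o := o, σ := σ, d := d, X := X, u := U, w := W, β := Bt, h := H
    X_eq := fun χ => ?_
    d_pos := hd1
    d_o := hdo
    u_o := hVo 0 1 (by simp [vec]; ring)
    w_o := hVo 1 1 (by simp [vec]; ring)
    β_o := hVo 2 0 (by simp [vec]; ring)
    h_o := hVo 3 0 (by simp [vec]; ring)
    uu := gramZ 0 0 4 (by simp [vec]; linear_combination (4/5 : ℂ) * hss')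
    ww := gramZ 1 1 4 (by simp [vec]; linear_combination (4/5 : ℂ) * hss')
    bb := gramZ 2 2 4 (by simp [vec]; linear_combination (4/5 : ℂ) * hss')
    hh := gramZ 3 3 2 (by simp [vec]; norm_num)
    uw := gramZ 0 1 2 (by simp [vec]; linear_combination -(4/5 : ℂ) * hss')
    ub := gramZ 0 2 0 (by simp [vec]; linear_combination -(4/5 : ℂ) * hss')
    wb := gramZ 1 2 2 (by simp [vec]; linear_combination (4/5 : ℂ) * hss')
    uh := gramZ 0 3 0 (by simp [vec]; ring)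
    wh := gramZ 1 3 0 (by simp [vec]; ring)
    bh := gramZ 2 3 0 (by simp [vec]; ring)
    du := hdeg 0, dw := hdeg 1, db := hdeg 2, dh := hdeg 3
    mu := momQ 0 144000 (by simp [vec]; ring)
    mb := momQ 2 57600 (by simp [vec]; ring)
    mh := (momQ 3 0 (by simp [vec]; norm_num)).trans (by simp)
    σ_o := Subtype.ext (funext fun g => rfl)
    σ_d := fun χ => ?_
    σ_u := fun χ => ?_
    σ_w := fun χ => ?_
    σ_b := fun χ => ?_
    dX8 := fun χ => ?_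
    dX0 := fun χ => ?_
    dvd := fun χ => by exact_mod_cast hdvd χ
    sq := le_of_eq ?_
    g_mod := hmod }, rfl, rfl, fun χ => ⟨hd χ, hX χ⟩,
    fun g hg => ⟨other g hg 0, other g hg 1, other g hg 2, other g hg 3⟩⟩
  · have h : ((X χ : ℤ) : ℂ) = ((a χ + 2 * b χ + 2 * b' χ : ℤ) : ℂ) := by
      push_cast
      linear_combination -(ha χ) / 5 - 2 * (hb χ) / 5 - 2 * (hb' χ) / 5
    have h' : X χ = a χ + 2 * b χ + 2 * b' χ := by exact_mod_cast h
    show X χ = 3 * (a χ - b χ + (b χ + b' χ - e χ)) - 2 * (a χ - b' χ + (b χ + b' χ - e χ))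
      + 5 * (b χ - (b χ + b' χ - e χ)) + 4 * (b χ + b' χ - e χ)
    rw [h']; ring
  · have h := σ1 χ
    rw [hd, hd] at h
    exact_mod_cast h
  · have h := σV 0 (fun χ => (V 1 χ : ℂ)) χ (by rw [hV, Fin.sum_univ_four]; simp [vec]; ring)
    exact Int.cast_injective h
  · have h := σV 1 (fun χ => (V 0 χ : ℂ)) χ (by rw [hV, Fin.sum_univ_four]; simp [vec]; ring)
    exact Int.cast_injective h
  · have h := σV 2 (fun χ => ((V 2 χ + V 0 χ - V 1 χ : ℤ) : ℂ)) χ (by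
      push_cast; rw [hV, hV, hV, Fin.sum_univ_four, Fin.sum_univ_four, Fin.sum_univ_four]; simp [vec]; ring)
    exact Int.cast_injective h
  · obtain ⟨m, hm⟩ := hres χ
    omega
  · obtain ⟨m, hm⟩ := hres χ
    omega
  · have h := Char.sum_sq_degrees (G := G)
    have h' : ((∑ χ, d χ * d χ : ℤ) : ℂ) = ((Nat.card G : ℤ) : ℂ) := by
      push_cast
      rw [← h]
      exact Finset.sum_congr rfl fun χ _ => by rw [hd, pow_two]
    exact_mod_cast h'

end Cfsg.Agent.JankoOneOrder
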