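/-
Counting around an element of order seven in a group of order 189000 with involution centraliser of order 120.
-/
import Cfsg.Agent.Lib.JankoOneOrder.Local

set_option autoImplicit false

namespace Cfsg.Agent.JankoOneOrder

open Cfsg Subgroup

variable {G : Type*} [Group G] [Finite G] {t : G}

theorem conj_of_odd {K : Type*} [Group K] {x p : K} (hx : x * x = 1) (hp : p * p = 1) {m : ℕ}
    (hm : ¬ 2 ∣ m) (hz : (x * p) ^ m = 1) : IsConj x p := by
  obtain ⟨k, hk⟩ : ∃ k, m = 2 * k + 1 := ⟨m / 2, by omega⟩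
  have hxi : x⁻¹ = x := inv_eq_of_mul_eq_one_right hx
  have hconj : x * (x * p) * x⁻¹ = (x * p)⁻¹ := by
    rw [mul_inv_rev, hxi, inv_eq_of_mul_eq_one_right hp, ← mul_assoc, hx, one_mul]
  have key : ((x * p) ^ (k + 1))⁻¹ * x = x * (x * p) ^ (k + 1) := by
    rw [← inv_pow, ← hconj, conj_pow, inv_mul_cancel_right]
  refine isConj_iff.mpr ⟨((x * p) ^ (k + 1))⁻¹, ?_⟩
  rw [key, inv_inv, mul_assoc, ← pow_add, show k + 1 + (k + 1) = m + 1 by omega, pow_succ, hz, one_mul,
    ← mul_assoc, hx, one_mul]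

theorem div_4500_check : ((List.range 4501).all fun m =>
    !(m % 7 == 1 && 4500 % m == 0 && 4500 / m % 2 == 1) || m == 36) = true := by decide +kernel

theorem div_4500 (m : ℕ) (h0 : m < 4501) (h1 : m % 7 = 1) (h2 : 4500 % m = 0) (h3 : 4500 / m % 2 = 1) : m = 36 := by
  have h := List.all_eq_true.mp div_4500_check m (List.mem_range.mpr h0)
  simpa [h1, h2, h3] using h

theorem div_1750 : ∀ m < 121, m % 2 = 0 → 1750 % m = 0 → 120 % m = 0 → m = 2 ∨ m = 10 := by decide +kernel

theorem seven_count (e : centralizer ({t} : Set G) ≃* Mdl) (ht1 : t ≠ 1) (htt : t * t = 1)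
    (hinv : ∀ x : G, x * x = 1 → x ≠ 1 → IsConj t x) (hg : Nat.card G = 189000)
    {b : G} (hb7 : b ^ 7 = 1) (hb1 : b ≠ 1) (hb2 : IsConj b (b ^ 2))
    {p q : G} (hp : IsConj t p) (hq : IsConj t q) (hpq : p * q = b) :
    Nat.card (centralizer ({b} : Set G)) = 875 ∧
    (Nat.card {r : G × G // IsConj t r.1 ∧ IsConj t r.2 ∧ r.1 * r.2 = b} = 875 ∨
      Nat.card {r : G × G // IsConj t r.1 ∧ IsConj t r.2 ∧ r.1 * r.2 = b} = 175) := by
  classical
  have : Fact (Nat.Prime 7) := ⟨by norm_num⟩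
  have : Fact (Nat.Prime 2) := ⟨Nat.prime_two⟩
  have hsq : ∀ x : G, IsConj t x → x * x = 1 ∧ x ≠ 1 := by
    intro x hx
    obtain ⟨g, rfl⟩ := isConj_iff.mp hx
    exact ⟨by rw [show g * t * g⁻¹ * (g * t * g⁻¹) = g * (t * t) * g⁻¹ by group, htt]; group,
      fun h => ht1 (conj_eq_one_iff.mp h)⟩
  obtain ⟨hp2, hp1⟩ := hsq p hp
  obtain ⟨hq2, -⟩ := hsq q hq
  have hpi : p⁻¹ = p := inv_eq_of_mul_eq_one_right hp2
  have hpb : p * b * p⁻¹ = b⁻¹ := by
    rw [← hpq, mul_inv_rev, hpi, inv_eq_of_mul_eq_one_right hq2, ← mul_assoc, hp2, one_mul]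
  have hord : orderOf b = 7 := orderOf_eq_prime hb7 hb1
  have hno : ∀ x : G, x * x = 1 → x ≠ 1 → b * x ≠ x * b := fun x hx hx1 h =>
    hb1 (seven_no_commute e hinv hx hx1 hb7 h)
  let Cb : Subgroup G := centralizer ({b} : Set G)
  have hCodd : ¬ 2 ∣ Nat.card Cb := fun h => by
    obtain ⟨x, hx⟩ := exists_prime_orderOf_dvd_card' 2 h
    have hx' : orderOf (x : G) = 2 := by rw [orderOf_submonoid]; exact hx
    refine hno x (by rw [← pow_two, ← hx', pow_orderOf_eq_one]) (fun h1 => by rw [h1, orderOf_one] at hx'; omega) ?_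
    exact (mem_centralizer_singleton_iff.mp x.2).symm
  have h7C : 7 ∣ Nat.card Cb := by
    rw [← hord, ← orderOf_mk (G := G) (H := Cb) b (mem_centralizer_singleton_iff.mpr rfl)]
    exact orderOf_dvd_natCard _
  -- the normaliser of `⟨b⟩`
  let N : Subgroup G := normalizer ((zpowers b : Subgroup G) : Set G)
  have hmemN : ∀ x : G, ∀ j : ℕ, x * b * x⁻¹ = b ^ j → x ∈ N := by
    intro x j hx
    refine mem_normalizer_fintype fun z hz => ?_
    obtain ⟨i, rfl⟩ := mem_zpowers_iff.mp hz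
    rw [← conj_zpow, hx]
    exact zpow_mem (pow_mem (mem_zpowers b) j) i
  obtain ⟨w, hw⟩ := isConj_iff.mp hb2
  have hwN : w ∈ N := hmemN w 2 hw
  have hb6 : b⁻¹ = b ^ 6 := (eq_inv_of_mul_eq_one_left (by rw [← pow_succ, hb7])).symm
  have hpN : p ∈ N := hmemN p 6 (hpb.trans hb6)
  have hbN : b ∈ N := le_normalizer (mem_zpowers b)
  have hconjN : ∀ j : Fin 6, IsConj (⟨b, hbN⟩ : N) ⟨b ^ ((j : ℕ) + 1), pow_mem hbN _⟩ := by
    have w2 : IsConj (⟨b, hbN⟩ : N) ⟨b ^ 2, pow_mem hbN _⟩ := isConj_iff.mpr ⟨⟨w, hwN⟩, Subtype.ext hw⟩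
    have w4 : IsConj (⟨b, hbN⟩ : N) ⟨b ^ 4, pow_mem hbN _⟩ := w2.trans (isConj_iff.mpr ⟨⟨w, hwN⟩, Subtype.ext (by
      show w * b ^ 2 * w⁻¹ = b ^ 4
      rw [← conj_pow, hw, ← pow_mul])⟩)
    have flip : ∀ i k : ℕ, (i + k) % 7 = 0 → IsConj (⟨b ^ i, pow_mem hbN _⟩ : N) ⟨b ^ k, pow_mem hbN _⟩ :=
      fun i k h => isConj_iff.mpr ⟨⟨p, hpN⟩, Subtype.ext (by
        show p * b ^ i * p⁻¹ = b ^ k
        rw [← conj_pow, hpb, inv_pow]
        refine inv_eq_of_mul_eq_one_right ?_
        rw [← pow_add, pow_eq_pow_mod _ hb7, h, pow_zero])⟩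
    have one : (⟨b, hbN⟩ : N) = ⟨b ^ 1, pow_mem hbN _⟩ := Subtype.ext (pow_one b).symm
    intro j
    fin_cases j
    · exact one ▸ IsConj.refl _
    · exact w2
    · exact w4.trans (flip 4 3 rfl)
    · exact w4
    · exact w2.trans (flip 2 5 rfl)
    · exact one ▸ flip 1 6 rfl
  have hcls : Nat.card {x : N | IsConj (⟨b, hbN⟩ : N) x} = 6 := by
    rw [← Nat.card_fin 6]
    refine (Nat.card_congr (Equiv.ofBijective (fun j : Fin 6 =>
      (⟨_, hconjN j⟩ : {x : N | IsConj (⟨b, hbN⟩ : N) x})) ⟨?_, ?_⟩)).symm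
    · intro i j h
      have h' : b ^ ((i : ℕ) + 1) = b ^ ((j : ℕ) + 1) := congrArg (fun z => ((z.1 : N) : G)) h
      rw [pow_inj_mod, hord] at h'
      exact Fin.ext (by omega)
    · rintro ⟨x, hx⟩
      obtain ⟨n, hn⟩ := isConj_iff.mp hx
      have hxz : (x : G) ∈ zpowers b := by
        rw [← hn]
        exact (mem_normalizer_iff.mp n.2 b).mp (mem_zpowers b)
      obtain ⟨i, hi, hi'⟩ := Finset.mem_image.mp ((isOfFinOrder_of_finite b).mem_zpowers_iff_mem_range_orderOf.mp hxz)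
      rw [Finset.mem_range, hord] at hi
      have hi0 : i ≠ 0 := fun h => by
        rw [h, pow_zero] at hi'
        have hb' : (n : G) * b * (n : G)⁻¹ = 1 := (congrArg Subtype.val hn).trans hi'.symm
        exact hb1 (conj_eq_one_iff.mp hb')
      refine ⟨⟨i - 1, by omega⟩, Subtype.ext (Subtype.ext ?_)⟩
      show b ^ (i - 1 + 1) = x
      rw [Nat.sub_add_cancel (by omega : 1 ≤ i), hi']
  have hCN : Cb ≤ N := fun x hx => hmemN x 1 (by
    rw [pow_one, mem_centralizer_singleton_iff.mp hx, mul_inv_cancel_right])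
  have hN : Nat.card N = 6 * Nat.card Cb := by
    rw [← Char.card_conjugates_mul_card_centralizer (⟨b, hbN⟩ : N), hcls]
    congr 1
    refine Nat.card_congr (Equiv.ofBijective (fun z => (⟨(z.1 : G), mem_centralizer_singleton_iff.mpr
      (congrArg Subtype.val (mem_centralizer_singleton_iff.mp z.2))⟩ : Cb)) ⟨?_, ?_⟩)
    · intro x y h
      exact Subtype.ext (Subtype.ext (Subtype.mk.inj h :))
    · rintro ⟨x, hx⟩
      exact ⟨⟨⟨x, hCN hx⟩, mem_centralizer_singleton_iff.mpr (Subtype.ext (mem_centralizer_singleton_iff.mp hx))⟩, rfl⟩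
  let A : Sylow 7 G := Sylow.ofCard (zpowers b) (by
    rw [Nat.card_zpowers, hord, hg, Nat.factorization_def _ (by norm_num : Nat.Prime 7),
      show (189000 : ℕ) = 7 * 27000 by norm_num, padicValNat.mul (by norm_num) (by norm_num),
      padicValNat.self (by norm_num), padicValNat.eq_zero_of_not_dvd (by norm_num : ¬ 7 ∣ 27000)]; norm_num)
  have hidx : Nat.card N * Nat.card (Sylow 7 G) = 189000 := by
    rw [Sylow.card_eq_index_normalizer A, ← hg]
    exact card_mul_index N
  have hmod := card_sylow_modEq_one 7 G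
  have hC : Nat.card Cb = 875 := by
    rw [hN] at hidx
    obtain ⟨c, hc⟩ := h7C
    unfold Nat.ModEq at hmod
    generalize Nat.card (Sylow 7 G) = m at hidx hmod
    rw [hc] at hidx hCodd
    have hmc : c * m = 4500 := by
      rw [show 6 * (7 * c) * m = 42 * (c * m) by ring] at hidx; omega
    have hmpos : 0 < m := Nat.pos_of_ne_zero fun h => by rw [h, mul_zero] at hmc; omega
    have hdiv : 4500 / m = c := by rw [← hmc, Nat.mul_div_cancel _ hmpos]
    have hc2 : c % 2 = 1 := by omega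
    have hm36 := div_4500 m (by
        have := Nat.le_of_dvd (by norm_num) (Dvd.intro_left c hmc); omega) (by omega)
      (Nat.mod_eq_zero_of_dvd (Dvd.intro_left c hmc) |> fun h => by omega) (by rw [hdiv]; omega)
    subst hm36
    rw [hc]; omega
  refine ⟨hC, ?_⟩
  -- the subgroup fixing `{b, b⁻¹}`
  let H : Subgroup G :=
    { carrier := {x | x * b * x⁻¹ = b ∨ x * b * x⁻¹ = b⁻¹}
      one_mem' := Or.inl (by group)
      mul_mem' := by
        intro x y hx hy
        show _ ∨ _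
        have hxi : ∀ z, x * z⁻¹ * x⁻¹ = (x * z * x⁻¹)⁻¹ := fun z => by group
        rw [show x * y * b * (x * y)⁻¹ = x * (y * b * y⁻¹) * x⁻¹ by group]
        rcases hy with h | h <;> rw [h] <;> rcases hx with h' | h' <;>
          simp only [hxi, h', inv_inv, true_or, or_true]
      inv_mem' := by
        intro x hx
        show _ ∨ _
        rcases hx with h | h
        · left; nth_rewrite 1 [← h]; group
        · right
          calc x⁻¹ * b * x⁻¹⁻¹ = (x⁻¹ * b⁻¹ * x)⁻¹ := by group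
            _ = (x⁻¹ * (x * b * x⁻¹) * x)⁻¹ := by rw [h]
            _ = b⁻¹ := by group }
  have hpH : p ∈ H := Or.inr hpb
  have hbH : b ∈ H := Or.inl (by group)
  have hbne : b ≠ b⁻¹ := fun h => by
    have h2 : b ^ 2 = 1 := by rw [pow_two]; nth_rewrite 2 [h]; group
    have := orderOf_dvd_of_pow_eq_one h2
    rw [hord] at this; norm_num at this
  have hH : Nat.card H = 1750 := by
    rw [← Char.card_conjugates_mul_card_centralizer (⟨b, hbH⟩ : H)]
    have h2 : Nat.card {x : H | IsConj (⟨b, hbH⟩ : H) x} = 2 := by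
      have heq : {x : H | IsConj (⟨b, hbH⟩ : H) x} = {⟨b, hbH⟩, ⟨b⁻¹, inv_mem hbH⟩} := by
        ext x
        constructor
        · intro hx
          obtain ⟨n, hn⟩ := isConj_iff.mp hx
          rcases n.2 with h | h
          · exact Or.inl (Subtype.ext ((congrArg Subtype.val hn).symm.trans h))
          · exact Or.inr (Subtype.ext ((congrArg Subtype.val hn).symm.trans h))
        · rintro (rfl | rfl)
          · exact IsConj.refl _
          · exact isConj_iff.mpr ⟨⟨p, hpH⟩, Subtype.ext hpb⟩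
      rw [heq, Nat.card_coe_set_eq, Set.ncard_pair fun h => hbne (congrArg Subtype.val h)]
    rw [h2, show (1750 : ℕ) = 2 * 875 from rfl, ← hC]
    congr 1
    refine Nat.card_congr (Equiv.ofBijective (fun z => (⟨(z.1 : G), mem_centralizer_singleton_iff.mpr
      (congrArg Subtype.val (mem_centralizer_singleton_iff.mp z.2))⟩ : Cb)) ⟨?_, ?_⟩)
    · intro x y h
      exact Subtype.ext (Subtype.ext (Subtype.mk.inj h :))
    · rintro ⟨x, hx⟩
      exact ⟨⟨⟨x, Or.inl (by rw [mem_centralizer_singleton_iff.mp hx, mul_inv_cancel_right])⟩,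
        mem_centralizer_singleton_iff.mpr (Subtype.ext (mem_centralizer_singleton_iff.mp hx))⟩, rfl⟩
  -- the involutions of `H` form one class
  have hinvH : ∀ x : H, IsConj t (x : G) → (x : G) * b * (x : G)⁻¹ = b⁻¹ := by
    intro x hx
    obtain ⟨hx2, hx1⟩ := hsq _ hx
    exact x.2.resolve_left fun h => hno _ hx2 hx1 (mul_inv_eq_iff_eq_mul.mp h).symm
  have hclass : ∀ x : H, IsConj (⟨p, hpH⟩ : H) x ↔ IsConj t (x : G) := by
    intro x
    constructor
    · intro h
      exact hp.trans (MonoidHom.map_isConj H.subtype h)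
    · intro h
      obtain ⟨hx2, -⟩ := hsq _ h
      have hc : (x : G) * p ∈ Cb := by
        rw [mem_centralizer_singleton_iff]
        refine mul_inv_eq_iff_eq_mul.mp ?_
        rw [show (x : G) * p * b * ((x : G) * p)⁻¹ = (x : G) * (p * b * p⁻¹) * (x : G)⁻¹ by group, hpb,
          show (x : G) * b⁻¹ * (x : G)⁻¹ = ((x : G) * b * (x : G)⁻¹)⁻¹ by group, hinvH x h, inv_inv]
      refine (conj_of_odd (K := H) (m := Nat.card Cb) (Subtype.ext hx2) (Subtype.ext hp2) hCodd ?_).symm
      have := pow_card_eq_one' (x := (⟨_, hc⟩ : Cb))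
      exact Subtype.ext (congrArg Subtype.val this :)
  have hn : Nat.card {r : G × G // IsConj t r.1 ∧ IsConj t r.2 ∧ r.1 * r.2 = b} =
      Nat.card {x : H | IsConj (⟨p, hpH⟩ : H) x} := by
    refine (Nat.card_congr (Equiv.ofBijective (fun x : {x : H | IsConj (⟨p, hpH⟩ : H) x} =>
      (⟨((x.1 : G), (x.1 : G) * b), ?_, ?_, ?_⟩ : {r : G × G // IsConj t r.1 ∧ IsConj t r.2 ∧ r.1 * r.2 = b}))
      ⟨?_, ?_⟩)).symm
    · exact (hclass _).mp x.2
    · have h := (hclass _).mp x.2
      obtain ⟨hx2, -⟩ := hsq _ h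
      have hxi := inv_eq_of_mul_eq_one_right hx2
      have hb' := hinvH _ h
      rw [hxi] at hb'
      refine hinv _ ?_ fun h1 => ?_
      · rw [← mul_assoc, hb', inv_mul_cancel]
      · have hxb := eq_inv_of_mul_eq_one_right h1
        rw [hxi] at hxb
        exact hbne (by rw [hxb, hxi])
    · show (x.1 : G) * ((x.1 : G) * b) = b
      rw [← mul_assoc, (hsq _ ((hclass _).mp x.2)).1, one_mul]
    · intro x y h
      exact Subtype.ext (Subtype.ext (congrArg (fun z => z.1.1) h :))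
    · rintro ⟨⟨x, y⟩, hx, hy, hxy⟩
      obtain ⟨hx2, -⟩ := hsq x hx
      obtain ⟨hy2, -⟩ := hsq y hy
      have hxb : x * b * x⁻¹ = b⁻¹ := by
        rw [← hxy, mul_inv_rev, inv_eq_of_mul_eq_one_right hx2, inv_eq_of_mul_eq_one_right hy2, ← mul_assoc,
          hx2, one_mul]
      refine ⟨⟨⟨x, Or.inr hxb⟩, (hclass _).mpr hx⟩, Subtype.ext (Prod.ext rfl ?_)⟩
      show x * b = y
      rw [← hxy, ← mul_assoc, hx2, one_mul]
  have hprod := Char.card_conjugates_mul_card_centralizer (⟨p, hpH⟩ : H)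
  rw [hH, ← hn] at hprod
  set k := Nat.card (centralizer ({(⟨p, hpH⟩ : H)} : Set H)) with hk
  have hk2 : 2 ∣ k := by
    have h1 : orderOf (⟨⟨p, hpH⟩, mem_centralizer_singleton_iff.mpr rfl⟩ :
        centralizer ({(⟨p, hpH⟩ : H)} : Set H)) = 2 :=
      orderOf_eq_prime (Subtype.ext (Subtype.ext (by show p ^ 2 = 1; rw [pow_two, hp2])))
        fun h => hp1 (congrArg (fun z => ((z.1 : H) : G)) h)
    rw [← h1]; exact orderOf_dvd_natCard _
  have hk120 : k ∣ 120 := by
    obtain ⟨g, hg⟩ := isConj_iff.mp hp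
    have hG : Nat.card (centralizer ({p} : Set G)) = 120 := by
      have h1 := Char.card_conjugates_mul_card_centralizer p
      have h2 := Char.card_conjugates_mul_card_centralizer t
      have he : ({x : G | IsConj p x} : Set G) = {x : G | IsConj t x} :=
        Set.ext fun x => ⟨fun k => hp.trans k, fun k => hp.symm.trans k⟩
      rw [he] at h1
      have : Nonempty {x : G | IsConj t x} := ⟨⟨t, IsConj.refl t⟩⟩
      rw [← card_cent_t e]
      exact Nat.eq_of_mul_eq_mul_left Nat.card_pos (h1.trans h2.symm)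
    rw [← hG]
    refine card_dvd_of_injective ((H.subtype.comp (centralizer ({(⟨p, hpH⟩ : H)} : Set H)).subtype).codRestrict
      _ fun z => mem_centralizer_singleton_iff.mpr (congrArg Subtype.val (mem_centralizer_singleton_iff.mp z.2))) ?_
    intro x y h
    exact Subtype.ext (Subtype.ext (congrArg Subtype.val h :))
  have hkd : k ∣ 1750 := Dvd.intro_left _ hprod
  rcases div_1750 k (by have := Nat.le_of_dvd (by norm_num) hk120; omega) (Nat.mod_eq_zero_of_dvd hk2 |> fun h => by omega)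
      (Nat.mod_eq_zero_of_dvd hkd |> fun h => by omega) (Nat.mod_eq_zero_of_dvd hk120 |> fun h => by omega) with h | h
  · left; rw [h] at hprod; omega
  · right; rw [h] at hprod; omega

end Cfsg.Agent.JankoOneOrder
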