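/-
The order of a simple group with a 2-central involution centraliser `C₂ × A₅` is 175560.
-/
import Cfsg.Agent.Lib.JankoOneOrder.Cases
import Cfsg.Agent.Lib.JankoOneOrder.Columns
import Cfsg.Agent.Lib.JankoOneOrder.Seven

set_option autoImplicit false

namespace Cfsg.Agent.JankoOneOrder

open Cfsg Subgroup
open scoped ComplexConjugate

variable {G : Type*} [Group G] [Finite G] [IsSimpleGroup G] {t : G}

theorem card_eq (ht : IsTwoCentralInvolution t) (e : centralizer ({t} : Set G) ≃* Mdl) :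
    Nat.card G = 175560 := by
  classical
  have := Fintype.ofFinite (IrrCharacter G)
  have ht2 := ht.1
  have htt : t * t = 1 := by rw [← pow_two, ← ht2, pow_orderOf_eq_one]
  have ht1 : t ≠ 1 := fun h => by rw [h, orderOf_one] at ht2; omega
  have hL := localData ht e
  have hC := card_cent_t e
  obtain ⟨c, hc⟩ := sec_exists ht2 hL.invol e
  obtain ⟨S, hSg, hSo, hval, hother⟩ := exists_sys hc hL hC htt
  rcases S.order with h | ⟨hg, hbad⟩
  · rw [← hSg]; exact h
  exfalso
  rw [hSg] at hg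
  obtain ⟨D, C, C', B, B', A, A', p, m, ⟨dD, xD⟩, ⟨dC, xC⟩, ⟨dB, xB⟩, ⟨dA, xA⟩, ⟨hpm, hdpm, xp, xm⟩, -, hf⟩ := hbad
  obtain ⟨a, P, hP8, hP2, ha7, ha1, ha2, has, has2, hanorm⟩ := hL.seven
  -- `a` lies outside the section
  have hout : ∀ i, ¬ IsConj a (c i) := by
    intro i h
    obtain ⟨x, hx⟩ := isConj_iff.mp h
    have h7 : c i ^ 7 = 1 := by rw [← hx, conj_pow, ha7]; group
    fin_cases i <;> simp at h7
    · rw [hc.c0, pow_eq_pow_mod (m := 7) (n := 2) (by rw [pow_two, htt]), pow_one] at h7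
      exact ht1 h7
    · rw [pow_eq_pow_mod (m := 7) hc.pow2.1, pow_one] at h7
      exact hc.ne_one 1 h7
    · rw [hc.p37] at h7
      exact hc.ne_one 3 h7
    · have := hc.p47
      rw [h7] at this
      exact hc.ne_one 2 (isConj_one_right.mp this)
  let y : IrrCharacter G → ℂ := fun χ => (χ : G → ℂ) a
  have hfix : ∀ χ : IrrCharacter G, (S.d χ + 7 * S.X χ = 0 → y χ = 0) ∧ (S.d χ + 7 * S.X χ = 8 → y χ = 1) := by
    intro χ
    obtain ⟨n, hn, himp⟩ := avg (Char.IsIrrCharacter.isCharacter χ.2) P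
    rw [finsum_P χ.2 P hP8 hP2 hL.invol, hP8, (hval χ).1, (hval χ).2] at hn
    have hn' : S.d χ + 7 * S.X χ = 8 * (n : ℤ) := by exact_mod_cast hn
    obtain ⟨i0, i1⟩ := himp a ha7 has has2 hanorm
    exact ⟨fun h => i0 (by omega), fun h => i1 (by omega)⟩
  have yC : y C = 0 := (hfix C).1 (by omega)
  have yB : y B = 0 := (hfix B).1 (by omega)
  have yA : y A = 0 := (hfix A).1 (by omega)
  have yD : y D = 1 := (hfix D).2 (by omega)
  have yo : y S.o = 1 := by show ((S.o : IrrCharacter G) : G → ℂ) a = 1; rw [hSo]; rfl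
  obtain ⟨eu, ew, eb, eh⟩ := hother a hout
  rw [(hf y).1, yo, yD, yC] at eu
  rw [(hf y).2.1, yo, yD, yB] at ew
  rw [(hf y).2.2.1, yA, yB] at eb
  rw [(hf y).2.2.2.1] at eh
  have yC' : y C' = 0 := by linear_combination eu
  have yB' : y B' = 0 := by linear_combination ew
  have yA' : y A' = 0 := by linear_combination eb - ew
  have ym : y m = y p := by linear_combination -eh
  -- the class multiplication formula
  have hX2 := (hf y).2.2.2.2
  rw [yo, yD, yC, yC', yB, yB', yA, yA', ym] at hX2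
  set b := a⁻¹ with hb
  have hmult := Char.class_mult_formula t t b
  have hsum : ∑ χ : IrrCharacter G, (χ : G → ℂ) t * (χ : G → ℂ) t * conj ((χ : G → ℂ) b) / (χ : G → ℂ) 1 =
      ∑ χ : IrrCharacter G, (S.X χ : ℂ) ^ 2 * y χ / (S.d χ : ℂ) := by
    refine Finset.sum_congr rfl fun χ _ => ?_
    rw [(hval χ).1, (hval χ).2, hb, Char.IsCharacter.apply_inv (Char.IsIrrCharacter.isCharacter χ.2),
      Complex.conj_conj, pow_two]
  rw [hsum, hX2] at hmult
  set n := Nat.card {r : G × G // IsConj t r.1 ∧ IsConj t r.2 ∧ r.1 * r.2 = b} with hn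
  have hcls : (Nat.card {x : G // IsConj t x} : ℂ) = 1575 := by
    have h := Char.card_conjugates_mul_card_centralizer t
    rw [hC, hg] at h
    have : Nat.card {x : G // IsConj t x} = 1575 := by
      have h' : Nat.card {x : G // IsConj t x} * 120 = 189000 := h
      omega
    exact_mod_cast this
  rw [hcls, hg] at hmult
  set d := S.d p with hd
  have hd0 : (d : ℂ) ≠ 0 := Int.cast_ne_zero.mpr (by have := S.d_pos p; omega)
  have heq : (420 : ℂ) * y p = (((d * ((n : ℤ) - 14)) : ℤ) : ℂ) := by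
    push_cast at hmult ⊢
    field_simp at hmult
    linear_combination -hmult / 2083725000
  obtain ⟨z, hz, hzeq⟩ := Order7920.int_of_rat (k := 420) (a := d * ((n : ℤ) - 14)) (by norm_num)
    (Char.IsCharacter.isIntegral (Char.IsIrrCharacter.isCharacter p.2) a) (by exact_mod_cast heq)
  push_cast at hzeq
  have hdlow : 28 ≤ d := by have := S.dX0 m; rw [xm, ← hdpm] at this; omega
  have hd8 : (d - 4) % 8 = 0 := by have := S.dX8 p; rw [xp] at this; exact this
  have hdhi : d ≤ 307 := by
    have h := sum_two_le (fun χ => S.d χ * S.d χ) (fun χ => mul_self_nonneg _) hpm rfl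
    have h' := S.sq
    rw [hSg, hg] at h'
    have h'' : d * d + d * d ≤ 189000 := by
      have := h.trans h'
      simpa [← hdpm, ← hd] using this
    nlinarith
  have hconj_sq : IsConj b (b ^ 2) := by
    obtain ⟨x, hx⟩ := isConj_iff.mp ha2
    refine isConj_iff.mpr ⟨x, ?_⟩
    rw [hb, inv_pow, ← hx]; group
  by_cases hn0 : n = 0
  · rw [hn0] at hzeq
    -- all nontrivial powers of `a` have the value `z`
    have hself : ∀ x y' : G, IsConj x y' → (p : G → ℂ) x = (p : G → ℂ) y' := fun x y' h => by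
      obtain ⟨g, rfl⟩ := isConj_iff.mp h
      exact (Char.IsIrrCharacter.isClassFunction p.2 x g).symm
    have h4 : IsConj a (a ^ 4) := by
      obtain ⟨x, hx⟩ := isConj_iff.mp ha2
      refine ha2.trans (isConj_iff.mpr ⟨x, ?_⟩)
      rw [← conj_pow, hx, ← pow_mul]
    have hinvv : ∀ x : G, (p : G → ℂ) x = z → (p : G → ℂ) x⁻¹ = z := fun x hx => by
      rw [Char.IsCharacter.apply_inv (Char.IsIrrCharacter.isCharacter p.2), hx, map_intCast]
    have hyz : (p : G → ℂ) a = z := hz
    have hpows : ∀ k ∈ Finset.range 7, k ≠ 0 → (p : G → ℂ) (a ^ k) = (p : G → ℂ) a := by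
      intro k hk hk0
      rw [Finset.mem_range] at hk
      have inv7 : ∀ i j : ℕ, i + j = 7 → (a ^ i)⁻¹ = a ^ j := fun i j h =>
        inv_eq_of_mul_eq_one_right (by rw [← pow_add, h, ha7])
      have v2 : (p : G → ℂ) (a ^ 2) = z := (hself _ _ ha2).symm.trans hyz
      have v4 : (p : G → ℂ) (a ^ 4) = z := (hself _ _ h4).symm.trans hyz
      rw [hyz]
      interval_cases k
      · exact absurd rfl hk0
      · rw [pow_one, hyz]
      · exact v2
      · rw [← inv7 4 3 rfl]; exact hinvv _ v4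
      · exact v4
      · rw [← inv7 2 5 rfl]; exact hinvv _ v2
      · rw [← inv7 1 6 rfl]; exact hinvv _ (by rw [pow_one, hyz])
    obtain ⟨z', hz', hdvd⟩ := Order7920.val_rational (Char.IsIrrCharacter.isCharacter p.2) (d := d.toNat)
      (by rw [(hval p).1]; rw [← Int.cast_natCast, Int.toNat_of_nonneg (by omega)]) (by norm_num) ha7 hpows
    have hzz : z' = z := by exact_mod_cast hz'.symm.trans hyz
    rw [hzz, Int.toNat_of_nonneg (by omega)] at hdvd
    push_cast at hzeq hdvd
    obtain ⟨q, hq⟩ := hdvd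
    omega
  · obtain ⟨r⟩ : Nonempty {r : G × G // IsConj t r.1 ∧ IsConj t r.2 ∧ r.1 * r.2 = b} :=
      (Nat.card_pos_iff.mp (Nat.pos_of_ne_zero hn0)).1
    obtain ⟨hCb, hn'⟩ := seven_count e ht1 htt hL.invol hg (b := b) (by rw [hb, inv_pow, ha7, inv_one])
      (by rw [hb]; exact inv_ne_one.mpr ha1) hconj_sq r.2.1 r.2.2.1 r.2.2.2
    have hbound : z * z + z * z ≤ 875 := by
      have h := Char.column_orth b b
      rw [if_pos (IsConj.refl b), hCb] at h
      have hyb : ∀ χ : IrrCharacter G, (χ : G → ℂ) b * conj ((χ : G → ℂ) b) = (Complex.normSq (y χ) : ℂ) := fun χ => by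
        rw [hb, Char.IsCharacter.apply_inv (Char.IsIrrCharacter.isCharacter χ.2), Complex.conj_conj,
          Complex.normSq_eq_conj_mul_self]
      rw [Finset.sum_congr rfl fun χ _ => hyb χ] at h
      have h' : ∑ χ : IrrCharacter G, Complex.normSq (y χ) = (875 : ℕ) := by exact_mod_cast h
      have hle : Complex.normSq (y p) + Complex.normSq (y m) ≤ (875 : ℕ) := by
        rw [← h', ← Finset.sum_pair hpm (f := fun χ => Complex.normSq (y χ))]
        exact Finset.sum_le_sum_of_subset_of_nonneg (Finset.subset_univ _) fun j _ _ => Complex.normSq_nonneg _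
      rw [ym, show y p = (z : ℂ) from hz, Complex.normSq_intCast] at hle
      exact_mod_cast hle
    have hzb : -20 ≤ z ∧ z ≤ 20 := ⟨by nlinarith, by nlinarith⟩
    rcases hn' with h | h <;> rw [← hn] at h <;> rw [h] at hzeq <;> push_cast at hzeq <;> omega

theorem isJ1 (ht : IsTwoCentralInvolution t) (e : centralizer ({t} : Set G) ≃* Mdl) : IsJ1 G :=
  ⟨inferInstance, card_eq ht e⟩

end Cfsg.Agent.JankoOneOrder
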